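import Mathlib

/-!
Fifteen triples on fifteen points, three through each point, any two sharing at most one point and no three
forming a triangle: each triple lies in exactly two sets of five pairwise disjoint triples.
-/

set_option autoImplicit false

namespace Cfsg.Agent.Srg77

open Finset

/-- Differing in exactly one of three coordinates. -/
def oneDiff (u v : Bool × Bool × Bool) : Bool :=
  (if u.1 = v.1 then 0 else 1) + (if u.2.1 = v.2.1 then 0 else 1) + (if u.2.2 = v.2.2 then 0 else 1) == 1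

theorem cube_check : ∀ s ∈ (univ : Finset (Bool × Bool × Bool)).powersetCard 4,
    (∀ u ∈ s, ∀ v ∈ s, oneDiff u v = false) →
      s = univ.filter (fun u => xor u.1 (xor u.2.1 u.2.2) = false) ∨
      s = univ.filter (fun u => xor u.1 (xor u.2.1 u.2.2) = true) := by
  decide +kernel

theorem cube_halves : ∀ b : Bool,
    (univ.filter fun u : Bool × Bool × Bool => xor u.1 (xor u.2.1 u.2.2) = b).card = 4 ∧
      ∀ u v : Bool × Bool × Bool, xor u.1 (xor u.2.1 u.2.2) = b → xor v.1 (xor v.2.1 v.2.2) = b →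
        oneDiff u v = false := by
  decide +kernel

variable {ι π : Type*} [Fintype ι] [DecidableEq ι] [Fintype π] [DecidableEq π]

/-- The configuration. -/
structure Config (Q : ι → Finset π) : Prop where
  card_line : ∀ i, (Q i).card = 3
  card_lines : Fintype.card ι = 15
  card_points : Fintype.card π = 15
  deg : ∀ q, (univ.filter fun i => q ∈ Q i).card = 3
  lin : ∀ i j, i ≠ j → (Q i ∩ Q j).card ≤ 1
  tri : ∀ i j k, i ≠ j → i ≠ k → j ≠ k → ∀ a ∈ Q i ∩ Q j, ∀ b ∈ Q j ∩ Q k, ∀ c ∈ Q i ∩ Q k, a = b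

variable {Q : ι → Finset π}

/-- Five pairwise disjoint triples through `L`. -/
def IsSpread (Q : ι → Finset π) (L : ι) (U : Finset ι) : Prop :=
  U.card = 5 ∧ L ∈ U ∧ ∀ i ∈ U, ∀ j ∈ U, i ≠ j → Disjoint (Q i) (Q j)

theorem Config.eq_of_two (C : Config Q) {i j : ι} {a b : π} (ha : a ∈ Q i) (ha' : a ∈ Q j)
    (hb : b ∈ Q i) (hb' : b ∈ Q j) (hab : a ≠ b) : i = j := by
  by_contra h
  have := card_le_card (show ({a, b} : Finset π) ⊆ Q i ∩ Q j by simp [insert_subset_iff, *])
  rw [card_pair hab] at this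
  have := C.lin i j h
  omega

theorem Config.lines_at (C : Config Q) {u : π} {i j k : ι} (hi : u ∈ Q i) (hj : u ∈ Q j) (hk : u ∈ Q k)
    (h1 : i ≠ j) (h2 : i ≠ k) (h3 : j ≠ k) : ∀ {l : ι}, u ∈ Q l → l = i ∨ l = j ∨ l = k := by
  intro l hl
  have he : ({i, j, k} : Finset ι) = univ.filter fun i => u ∈ Q i := by
    refine eq_of_subset_of_card_le (by simp [insert_subset_iff, hi, hj, hk]) ?_
    rw [C.deg, card_insert_of_notMem (by simp [h1, h2]), card_pair h3]
  have : l ∈ ({i, j, k} : Finset ι) := he ▸ mem_filter.2 ⟨mem_univ _, hl⟩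
  simpa using this

/-- Off a triple there is exactly one collinear point on it. -/
theorem Config.axiom_gq (C : Config Q) (L : ι) {u : π} (hu : u ∉ Q L) :
    ∃! A, u ∈ Q A ∧ A ≠ L ∧ (Q A ∩ Q L).Nonempty := by
  classical
  set A := univ.filter fun i => i ≠ L ∧ (Q i ∩ Q L).Nonempty with hA
  have uniq : ∀ u, u ∉ Q L → (A.filter fun i => u ∈ Q i).card ≤ 1 := by
    intro u hu
    refine card_le_one.2 fun i hi j hj => ?_
    simp only [hA, mem_filter, mem_univ, true_and] at hi hj
    by_contra hij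
    obtain ⟨a, ha⟩ := hi.1.2
    obtain ⟨b, hb⟩ := hj.1.2
    have := C.tri i j L hij hi.1.1 hj.1.1 u (mem_inter.2 ⟨hi.2, hj.2⟩) b hb a ha
    exact hu (this ▸ (mem_inter.1 hb).2)
  have hAc : A.card = 6 := by
    have h : A = (Q L).biUnion fun q => (univ.filter fun i => q ∈ Q i).erase L := by
      ext i
      simp only [hA, mem_filter, mem_univ, true_and, mem_biUnion, mem_erase]
      constructor
      · rintro ⟨hne, q, hq⟩; exact ⟨q, (mem_inter.1 hq).2, hne, (mem_inter.1 hq).1⟩
      · rintro ⟨q, hq, hne, hi⟩; exact ⟨hne, q, mem_inter.2 ⟨hi, hq⟩⟩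
    rw [h, card_biUnion, sum_const_nat (m := 2), C.card_line]
    · intro q hq
      rw [card_erase_of_mem (by simp [hq]), C.deg]
    · intro q hq q' hq' hne
      refine disjoint_left.2 fun i hi hi' => ?_
      simp only [mem_erase, mem_filter, mem_univ, true_and] at hi hi'
      exact hi.1 (C.eq_of_two hi.2 hq hi'.2 hq' hne)
  have hsum : ∑ u ∈ (Q L)ᶜ, (A.filter fun i => u ∈ Q i).card = 12 := by
    have hdc : ∀ i ∈ A, ((Q L)ᶜ.bipartiteAbove (fun i u => u ∈ Q i) i).card = 2 := by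
      intro i hi
      simp only [hA, mem_filter, mem_univ, true_and] at hi
      have h1 : (Q i ∩ Q L).card = 1 := le_antisymm (C.lin i L hi.1) (card_pos.2 hi.2)
      have := card_inter_add_card_sdiff (Q i) (Q L)
      rw [C.card_line, h1] at this
      rw [bipartiteAbove, filter_mem_eq_inter, inter_comm, ← sdiff_eq_inter_compl]
      omega
    have h := sum_card_bipartiteAbove_eq_sum_card_bipartiteBelow (fun i u => u ∈ Q i) (s := A) (t := (Q L)ᶜ)
    rw [sum_const_nat hdc, hAc] at h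
    exact h.symm
  have h1 : ∀ v ∈ (Q L)ᶜ, (A.filter fun i => v ∈ Q i).card = 1 := by
    have hle : ∀ v ∈ (Q L)ᶜ, (A.filter fun i => v ∈ Q i).card ≤ 1 := fun v hv => uniq v (mem_compl.1 hv)
    refine (sum_eq_sum_iff_of_le hle).1 ?_
    rw [hsum, sum_const, card_compl, C.card_points, C.card_line, smul_eq_mul]
  obtain ⟨i, hi⟩ := card_eq_one.1 (h1 u (mem_compl.2 hu))
  have him : i ∈ A.filter fun i => u ∈ Q i := hi ▸ mem_singleton_self i
  simp only [hA, mem_filter, mem_univ, true_and] at him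
  refine ⟨i, ⟨him.2, him.1.1, him.1.2⟩, fun j hj => ?_⟩
  have : j ∈ ({i} : Finset ι) := hi ▸ mem_filter.2 ⟨mem_filter.2 ⟨mem_univ _, hj.2⟩, hj.1⟩
  exact mem_singleton.1 this

/-- The coordinates of the triples disjoint from `L`, and the partner in each. -/
theorem Config.exists_coords (C : Config Q) (L : ι) :
    ∃ (q : Fin 3 → π) (t : ι → Fin 3 → ι) (ν : Fin 3 → ι → ι), Function.Injective q ∧ (∀ i, q i ∈ Q L) ∧
      ∀ M, Disjoint (Q M) (Q L) →
        (∀ i, q i ∈ Q (t M i) ∧ t M i ≠ L ∧ (Q (t M i) ∩ Q M).Nonempty) ∧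
        (∀ i A, q i ∈ Q A → A ≠ L → (Q A ∩ Q M).Nonempty → A = t M i) ∧
        (∀ i, Disjoint (Q (ν i M)) (Q L) ∧ ν i M ≠ M ∧ (Q M ∩ Q (ν i M)).Nonempty ∧
          t (ν i M) i = t M i) ∧
        (∀ N, Disjoint (Q N) (Q L) → N ≠ M → (Q M ∩ Q N).Nonempty →
          ∃ i, N = ν i M ∧ ∀ j, j ≠ i → t N j ≠ t M j) := by
  classical
  let e : Fin 3 ≃ {a // a ∈ Q L} := ((Q L).equivFinOfCardEq (C.card_line L)).symm
  set q : Fin 3 → π := fun i => (e i).1 with hq
  have hqi : Function.Injective q := fun i j h => e.injective (Subtype.ext h)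
  have hqL : ∀ i, q i ∈ Q L := fun i => (e i).2
  have hqs : ∀ a ∈ Q L, ∃ i, q i = a := fun a ha => ⟨e.symm ⟨a, ha⟩, by simp [hq]⟩
  -- each point of a disjoint triple goes to one point of `L`
  have key : ∀ M, Disjoint (Q M) (Q L) → ∀ i, ∃! A, q i ∈ Q A ∧ A ≠ L ∧ (Q A ∩ Q M).Nonempty := by
    intro M hM i
    have hinj : ∀ A B u u', A ≠ L → B ≠ L → q i ∈ Q A → q i ∈ Q B → u ∈ Q A → u ∈ Q M → u' ∈ Q B →
        u' ∈ Q M → A = B := by
      intro A B u u' hA hB hqA hqB huA huM huB huM'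
      by_contra hAB
      have hMA : A ≠ M := fun h => disjoint_left.1 hM (h ▸ hqA) (hqL i)
      have hMB : B ≠ M := fun h => disjoint_left.1 hM (h ▸ hqB) (hqL i)
      have := C.tri A B M hAB hMA hMB (q i) (mem_inter.2 ⟨hqA, hqB⟩) u' (mem_inter.2 ⟨huB, huM'⟩) u
        (mem_inter.2 ⟨huA, huM⟩)
      exact disjoint_left.1 hM huM' (this ▸ hqL i)
    haveI : Nonempty ι := ⟨L⟩
    haveI : Nonempty π := ⟨q i⟩
    choose! A hA hA' using fun u (hu : u ∈ Q M) => C.axiom_gq L (disjoint_left.1 hM hu)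
    choose! b hb using fun u (hu : u ∈ Q M) => (hA u hu).2.2
    have hbq : ∀ u ∈ Q M, b u ∈ Q (A u) ∧ b u ∈ Q L := fun u hu => mem_inter.1 (hb u hu)
    have hbi : Set.InjOn b (Q M : Set π) := by
      intro u hu v hv he
      simp only [mem_coe] at hu hv
      by_contra hne
      obtain ⟨j, hj⟩ := hqs (b u) (hbq u hu).2
      by_cases hAA : A u = A v
      · have hAM := C.eq_of_two (hA u hu).1 hu (hAA ▸ (hA v hv).1) hv hne
        exact disjoint_left.1 hM (hAM ▸ (hbq u hu).1) (hbq u hu).2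
      · have hMA : A u ≠ M := fun h => disjoint_left.1 hM (h ▸ (hbq u hu).1) (hbq u hu).2
        have hMB : A v ≠ M := fun h => disjoint_left.1 hM (h ▸ (hbq v hv).1) (hbq v hv).2
        have := C.tri (A u) (A v) M hAA hMA hMB (b u) (mem_inter.2 ⟨(hbq u hu).1, he ▸ (hbq v hv).1⟩) v
          (mem_inter.2 ⟨(hA v hv).1, hv⟩) u (mem_inter.2 ⟨(hA u hu).1, hu⟩)
        exact disjoint_left.1 hM hv (this ▸ (hbq u hu).2)
    have himg : (Q M).image b = Q L := eq_of_subset_of_card_le
      (fun a ha => by obtain ⟨u, hu, rfl⟩ := mem_image.1 ha; exact (hbq u hu).2)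
      (by rw [card_image_of_injOn hbi, C.card_line, C.card_line])
    obtain ⟨u, hu, hub⟩ := mem_image.1 (himg.symm ▸ hqL i : q i ∈ (Q M).image b)
    refine ⟨A u, ⟨hub ▸ (hbq u hu).1, (hA u hu).2.1, ⟨u, mem_inter.2 ⟨(hA u hu).1, hu⟩⟩⟩, ?_⟩
    rintro B ⟨hqB, hBL, v, hv⟩
    exact hinj B (A u) v u hBL (hA u hu).2.1 hqB (hub ▸ (hbq u hu).1) (mem_inter.1 hv).1
      (mem_inter.1 hv).2 (hA u hu).1 hu
  have htot : ∀ M, ∃ A : Fin 3 → ι, Disjoint (Q M) (Q L) → ∀ i,
      (q i ∈ Q (A i) ∧ A i ≠ L ∧ (Q (A i) ∩ Q M).Nonempty) ∧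
        ∀ B, q i ∈ Q B → B ≠ L → (Q B ∩ Q M).Nonempty → B = A i := by
    intro M
    by_cases hM : Disjoint (Q M) (Q L)
    · choose A hA hA' using fun i => key M hM i
      exact ⟨A, fun _ i => ⟨hA i, fun B h1 h2 h3 => hA' i B ⟨h1, h2, h3⟩⟩⟩
    · exact ⟨fun _ => M, fun h => absurd h hM⟩
  choose t ht using htot
  have tne : ∀ M, Disjoint (Q M) (Q L) → ∀ i, t M i ≠ M := fun M hM i h =>
    disjoint_left.1 hM (h ▸ (ht M hM i).1.1) (hqL i)
  have tinj : ∀ M, Disjoint (Q M) (Q L) → Function.Injective (t M) := by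
    intro M hM i j h
    by_contra hne
    exact (ht M hM i).1.2.1
      (C.eq_of_two (ht M hM i).1.1 (hqL i) (h ▸ (ht M hM j).1.1) (hqL j) (fun e => hne (hqi e)))
  -- the third triple at a point of `M`
  have hν : ∀ i M, ∃ N, Disjoint (Q M) (Q L) → Disjoint (Q N) (Q L) ∧ N ≠ M ∧
      (∃ u, u ∈ Q M ∧ u ∈ Q (t M i) ∧ u ∈ Q N) ∧ t N i = t M i := by
    intro i M
    by_cases hM : Disjoint (Q M) (Q L)
    · obtain ⟨u, hu⟩ := (ht M hM i).1.2.2
      rw [mem_inter] at hu
      obtain ⟨N, hN, hN'⟩ := exists_mem_notMem_of_card_lt_card (s := ({M, t M i} : Finset ι))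
        (t := univ.filter fun l => u ∈ Q l)
        (by rw [C.deg, card_pair (tne M hM i).symm]; norm_num)
      simp only [mem_filter, mem_univ, true_and] at hN
      simp only [mem_insert, mem_singleton, not_or] at hN'
      have huL : u ∉ Q L := disjoint_left.1 hM hu.2
      have hNL : N ≠ L := fun e => huL (e ▸ hN)
      have hdN : Disjoint (Q N) (Q L) := by
        rw [disjoint_iff_inter_eq_empty, ← not_nonempty_iff_eq_empty]
        exact fun hne => hN'.2 ((C.axiom_gq L huL).unique ⟨hN, hNL, hne⟩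
          ⟨hu.1, (ht M hM i).1.2.1, ⟨q i, mem_inter.2 ⟨(ht M hM i).1.1, hqL i⟩⟩⟩)
      exact ⟨N, fun _ => ⟨hdN, hN'.1, ⟨u, hu.2, hu.1, hN⟩, ((ht N hdN i).2 _ (ht M hM i).1.1
        (ht M hM i).1.2.1 ⟨u, mem_inter.2 ⟨hu.1, hN⟩⟩).symm⟩⟩
    · exact ⟨M, fun h => absurd h hM⟩
  choose ν hν' using hν
  refine ⟨q, t, ν, hqi, hqL, fun M hM => ⟨fun i => (ht M hM i).1, fun i A h1 h2 h3 => (ht M hM i).2 A h1 h2 h3,
    fun i => ?_, ?_⟩⟩
  · obtain ⟨h1, h2, ⟨u, hu1, hu2, hu3⟩, h4⟩ := hν' i M hM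
    exact ⟨h1, h2, ⟨u, mem_inter.2 ⟨hu1, hu3⟩⟩, h4⟩
  · intro N hN hne hMN
    obtain ⟨u, hu⟩ := hMN
    rw [mem_inter] at hu
    obtain ⟨A, ⟨hAu, hAL, a, ha⟩, hAuniq⟩ := C.axiom_gq L (disjoint_left.1 hM hu.1)
    rw [mem_inter] at ha
    obtain ⟨i, rfl⟩ := hqs a ha.2
    have eM : A = t M i := (ht M hM i).2 A ha.1 hAL ⟨u, mem_inter.2 ⟨hAu, hu.1⟩⟩
    have eN : A = t N i := (ht N hN i).2 A ha.1 hAL ⟨u, mem_inter.2 ⟨hAu, hu.2⟩⟩
    obtain ⟨-, hν2, ⟨u', hu'1, hu'2, hu'3⟩, -⟩ := hν' i M hM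
    have huu : u' = u := by
      by_contra h
      exact tne M hM i (C.eq_of_two hu'2 hu'1 (eM ▸ hAu) hu.1 h)
    rw [huu] at hu'1 hu'2 hu'3
    have hAM : A ≠ M := eM ▸ tne M hM i
    have hAN : A ≠ N := eN ▸ tne N hN i
    refine ⟨i, ?_, fun j hj hjt => ?_⟩
    · rcases C.lines_at hu.1 hAu hu.2 hAM.symm (Ne.symm hne) hAN hu'3 with h | h | h
      · exact absurd h hν2
      · exfalso
        have := (hν' i M hM).1
        rw [h] at this
        exact disjoint_left.1 this ha.1 (hqL i)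
      · exact h.symm
    · obtain ⟨⟨h1, -, h3⟩, -⟩ := ht M hM j
      obtain ⟨⟨-, -, h3'⟩, -⟩ := ht N hN j
      rw [hjt] at h3'
      obtain ⟨v, hv⟩ := h3
      obtain ⟨v', hv'⟩ := h3'
      have := C.tri M N (t M j) (Ne.symm hne) (tne M hM j).symm (fun e => disjoint_left.1 hN (e ▸ h1) (hqL j)) u
        (mem_inter.2 hu) v' (mem_inter.2 ⟨(mem_inter.1 hv').2, (mem_inter.1 hv').1⟩) v
        (mem_inter.2 ⟨(mem_inter.1 hv).2, (mem_inter.1 hv).1⟩)
      have hAe : A = t M j := (hAuniq _ ⟨this ▸ (mem_inter.1 hv').1, (ht M hM j).1.2.1,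
        ⟨q j, mem_inter.2 ⟨h1, hqL j⟩⟩⟩).symm
      exact hj (tinj M hM (hAe.symm.trans eM))

theorem Config.two_spreads (C : Config Q) (L : ι) :
    ∃ S T : Finset ι, S ≠ T ∧ ∀ U, IsSpread Q L U ↔ U = S ∨ U = T := by
  classical
  obtain ⟨q, t, ν, hqi, hqL, hf⟩ := C.exists_coords L
  set J := univ.filter fun M => Disjoint (Q M) (Q L) with hJ
  have memJ : ∀ {M}, M ∈ J ↔ Disjoint (Q M) (Q L) := fun {M} => by simp [hJ]
  have hLJ : L ∉ J := fun h => by
    have h' := memJ.1 h
    rw [disjoint_self] at h'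
    have := C.card_line L
    rw [h'] at this
    simp at this
  have hJc : J.card = 8 := by
    have h : (univ : Finset ι) \ J = insert L ((Q L).biUnion fun a => (univ.filter fun i => a ∈ Q i).erase L) := by
      ext i
      simp only [mem_sdiff, mem_univ, true_and, memJ, mem_insert, mem_biUnion, mem_erase, mem_filter,
        not_disjoint_iff]
      constructor
      · rintro ⟨a, ha, ha'⟩
        by_cases e : i = L
        · exact Or.inl e
        · exact Or.inr ⟨a, ha', e, ha⟩
      · rintro (rfl | ⟨a, ha, -, ha'⟩)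
        · obtain ⟨a, ha⟩ := card_pos.1 (show 0 < (Q i).card by rw [C.card_line]; norm_num)
          exact ⟨a, ha, ha⟩
        · exact ⟨a, ha', ha⟩
    have h7 := congrArg card h
    rw [card_insert_of_notMem (by simp), card_biUnion, sum_const_nat (m := 2), C.card_line,
      card_sdiff_of_subset (subset_univ _), card_univ, C.card_lines] at h7
    · omega
    · intro a ha; rw [card_erase_of_mem (by simp [ha]), C.deg]
    · intro a ha a' ha' hne
      refine disjoint_left.2 fun i hi hi' => ?_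
      simp only [mem_erase, mem_filter, mem_univ, true_and] at hi hi'
      exact hi.1 (C.eq_of_two hi.2 ha hi'.2 ha' hne)
  have mem_ν : ∀ i M, M ∈ J → ν i M ∈ J := fun i M h => memJ.2 ((hf M (memJ.1 h)).2.2.1 i).1
  have ν_ne : ∀ i M, M ∈ J → ν i M ≠ M := fun i M h => ((hf M (memJ.1 h)).2.2.1 i).2.1
  have meet_ν : ∀ i M, M ∈ J → (Q M ∩ Q (ν i M)).Nonempty := fun i M h =>
    ((hf M (memJ.1 h)).2.2.1 i).2.2.1
  have same : ∀ i M, M ∈ J → t (ν i M) i = t M i := fun i M h => ((hf M (memJ.1 h)).2.2.1 i).2.2.2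
  have diff : ∀ i j M, M ∈ J → j ≠ i → t (ν i M) j ≠ t M j := by
    intro i j M h hji
    obtain ⟨k, -, hkd⟩ := (hf M (memJ.1 h)).2.2.2 (ν i M) (memJ.1 (mem_ν i M h)) (ν_ne i M h) (meet_ν i M h)
    by_cases hki : k = i
    · subst hki; exact hkd j hji
    · exact absurd (same i M h) (hkd i (Ne.symm hki))
  have invol : ∀ i M, M ∈ J → ν i (ν i M) = M := by
    intro i M h
    obtain ⟨k, hk, hkd⟩ := (hf _ (memJ.1 (mem_ν i M h))).2.2.2 M (memJ.1 h) (ν_ne i M h).symm
      (by rw [inter_comm]; exact meet_ν i M h)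
    by_cases hki : k = i
    · subst hki; exact hk.symm
    · exact absurd (same i M h).symm (hkd i (Ne.symm hki))
  have two_at : ∀ i M, M ∈ J → ∀ A B, q i ∈ Q A → A ≠ L → A ≠ t M i → q i ∈ Q B → B ≠ L →
      B ≠ t M i → A = B := by
    intro i M h A B hA hAL hA' hB hBL hB'
    obtain ⟨h1, h2, -⟩ := (hf M (memJ.1 h)).1 i
    rcases C.lines_at (hqL i) h1 hA h2.symm hAL.symm hA'.symm hB with e | e | e
    exacts [absurd e hBL, absurd e hB', e.symm]
  have tmem : ∀ i M, M ∈ J → q i ∈ Q (t M i) ∧ t M i ≠ L := fun i M h =>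
    ⟨((hf M (memJ.1 h)).1 i).1, ((hf M (memJ.1 h)).1 i).2.1⟩
  have eq_or : ∀ i M N R, M ∈ J → N ∈ J → R ∈ J → t N i ≠ t M i → t R i ≠ t M i → t N i = t R i :=
    fun i M N R hM hN hR h1 h2 => two_at i M hM _ _ (tmem i N hN).1 (tmem i N hN).2 h1
      (tmem i R hR).1 (tmem i R hR).2 h2
  have count4 : ∀ i M, M ∈ J → (J.filter fun N => t N i = t M i).card ≤ 4 := by
    intro i M h
    obtain ⟨hA, hAL⟩ := tmem i M h
    set A := t M i
    have hsub : (J.filter fun N => t N i = A) ⊆
        ((Q A).erase (q i)).biUnion fun u => (univ.filter fun l => u ∈ Q l).erase A := by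
      intro N hN
      rw [mem_filter] at hN
      obtain ⟨-, -, v, hv⟩ := (hf N (memJ.1 hN.1)).1 i
      rw [hN.2, mem_inter] at hv
      simp only [mem_biUnion, mem_erase, mem_filter, mem_univ, true_and]
      exact ⟨v, ⟨fun e => disjoint_left.1 (memJ.1 hN.1) hv.2 (e ▸ hqL i), hv.1⟩,
        fun e => disjoint_left.1 (memJ.1 hN.1) (e ▸ hA) (hqL i), hv.2⟩
    refine (card_le_card hsub).trans ((card_biUnion_le_card_mul _ _ 2 fun u hu => ?_).trans ?_)
    · rw [card_erase_of_mem (show A ∈ univ.filter fun l => u ∈ Q l from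
        mem_filter.2 ⟨mem_univ _, (mem_erase.1 hu).2⟩), C.deg]
    · rw [card_erase_of_mem hA, C.card_line]
  have no_tri : ∀ i k M, M ∈ J → i ≠ k → ∀ l, ν l (ν i M) ≠ ν k M := by
    intro i k M h hik l he
    have hM1 := meet_ν i M h
    have hM3 := meet_ν k M h
    have h13 := meet_ν l _ (mem_ν i M h)
    rw [he] at h13
    obtain ⟨a, ha⟩ := hM1
    obtain ⟨b, hb⟩ := h13
    obtain ⟨c, hc⟩ := hM3
    have hne13 : ν i M ≠ ν k M := fun e => diff k i M h hik (by rw [← e]; exact same i M h)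
    have hab := C.tri M (ν i M) (ν k M) (ν_ne i M h).symm (ν_ne k M h).symm hne13 a ha b hb c hc
    obtain ⟨A, hA, -⟩ := C.axiom_gq L (disjoint_left.1 (memJ.1 h) (mem_inter.1 ha).1)
    rcases C.lines_at (mem_inter.1 ha).1 (mem_inter.1 ha).2 (hab ▸ (mem_inter.1 hb).2)
      (ν_ne i M h).symm (ν_ne k M h).symm hne13 hA.1 with e | e | e
    · have := memJ.1 h
      rw [← e, disjoint_iff_inter_eq_empty] at this
      exact absurd hA.2.2 (by simp [this])
    · have := memJ.1 (mem_ν i M h)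
      rw [← e, disjoint_iff_inter_eq_empty] at this
      exact absurd hA.2.2 (by simp [this])
    · have := memJ.1 (mem_ν k M h)
      rw [← e, disjoint_iff_inter_eq_empty] at this
      exact absurd hA.2.2 (by simp [this])
  have comm : ∀ i j k M, M ∈ J → i ≠ j → i ≠ k → j ≠ k → ν j (ν i M) = ν i (ν j M) := by
    intro i j k M h hij hik hjk
    by_contra hXY
    have h1 := mem_ν i M h
    have h2 := mem_ν j M h
    have h3 := mem_ν k M h
    have hX := mem_ν j _ h1
    have hY := mem_ν i _ h2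
    have hZ := mem_ν j _ h3
    set X := ν j (ν i M) with hXdef
    set Y := ν i (ν j M) with hYdef
    set Z := ν j (ν k M) with hZdef
    have jn1 : t (ν i M) j ≠ t M j := diff i j M h hij.symm
    have jn3 : t (ν k M) j = t (ν i M) j := eq_or j M _ _ h h3 h1 (diff k j M h hjk) jn1
    have jX : t X j = t (ν i M) j := same j _ h1
    have jY : t Y j = t (ν i M) j :=
      eq_or j M _ _ h hY h1 (by
        have := diff i j _ h2 hij.symm
        rwa [same j M h] at this) jn1
    have jZ : t Z j = t (ν i M) j := (same j _ h3).trans jn3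
    have kX : t X k = t M k := by
      by_contra hc
      exact diff j k _ h1 hjk.symm (eq_or k M _ _ h hX h1 hc (diff i k M h hik.symm))
    have kY : t Y k = t M k := by
      by_contra hc
      exact diff i k _ h2 hik.symm (eq_or k M _ _ h hY h2 hc (diff j k M h hjk.symm))
    have kZ : t Z k ≠ t M k := by
      have := diff j k _ h3 hjk.symm
      rwa [same k M h] at this
    have kN : t (ν i M) k ≠ t M k := diff i k M h hik.symm
    have k3 : t (ν k M) k = t M k := same k M h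
    have five : ({ν i M, Z, ν k M, X, Y} : Finset ι) ⊆ J.filter fun N => t N j = t (ν i M) j := by
      intro N hN
      simp only [mem_insert, mem_singleton] at hN
      rw [mem_filter]
      rcases hN with rfl | rfl | rfl | rfl | rfl
      exacts [⟨h1, rfl⟩, ⟨hZ, jZ⟩, ⟨h3, jn3⟩, ⟨hX, jX⟩, ⟨hY, jY⟩]
    have ne1 : ν i M ≠ Z := fun e => no_tri k i M h hik.symm j e.symm
    have ne2 : ν k M ≠ X := fun e => no_tri i k M h hik j e.symm
    have ne3 : ν k M ≠ Y := fun e => no_tri j k M h hjk i e.symm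
    have n13 : ∀ {N R : ι}, t N k ≠ t M k → t R k = t M k → N ≠ R := fun hN hR e => hN (e ▸ hR)
    have hc5 : ({ν i M, Z, ν k M, X, Y} : Finset ι).card = 5 := by
      rw [card_insert_of_notMem (by simp [ne1, n13 kN k3, n13 kN kX, n13 kN kY]),
        card_insert_of_notMem (by simp [n13 kZ k3, n13 kZ kX, n13 kZ kY]),
        card_insert_of_notMem (by simp [ne2, ne3]), card_pair hXY]
    have := (card_le_card five).trans (count4 j _ h1)
    omega
  -- coordinates
  obtain ⟨M₀, hM₀⟩ := card_pos.1 (show 0 < J.card by omega)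
  set f : Fin 3 → Bool → ι → ι := fun i b M => if b then ν i M else M with hfdef
  have mem_f : ∀ i b M, M ∈ J → f i b M ∈ J := fun i b M h => by
    cases b
    · exact h
    · exact mem_ν i M h
  set φ : Bool × Bool × Bool → ι := fun u => f 0 u.1 (f 1 u.2.1 (f 2 u.2.2 M₀)) with hφ
  have mem_φ : ∀ u, φ u ∈ J := fun u => mem_f _ _ _ (mem_f _ _ _ (mem_f _ _ _ hM₀))
  have c01 : ∀ M ∈ J, ν 1 (ν 0 M) = ν 0 (ν 1 M) := fun M h =>
    comm 0 1 2 M h (by decide) (by decide) (by decide)
  have c02 : ∀ M ∈ J, ν 2 (ν 0 M) = ν 0 (ν 2 M) := fun M h =>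
    comm 0 2 1 M h (by decide) (by decide) (by decide)
  have c12 : ∀ M ∈ J, ν 2 (ν 1 M) = ν 1 (ν 2 M) := fun M h =>
    comm 1 2 0 M h (by decide) (by decide) (by decide)
  have m2 := mem_ν 2 _ hM₀
  have flip0 : ∀ a b c, ν 0 (φ (a, b, c)) = φ (!a, b, c) := by
    intro a b c
    cases a
    · simp only [hφ, hfdef, Bool.not_false, Bool.false_eq_true, if_true, if_false]
    · simp only [hφ, hfdef, Bool.not_true, Bool.false_eq_true, if_true, if_false]
      exact invol 0 _ (mem_f 1 b _ (mem_f 2 c _ hM₀))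
  have flip1 : ∀ a b c, ν 1 (φ (a, b, c)) = φ (a, !b, c) := by
    intro a b c
    cases a <;> cases b <;> cases c <;>
      simp only [hφ, hfdef, Bool.not_true, Bool.not_false, Bool.false_eq_true, if_true, if_false]
    · exact invol 1 _ hM₀
    · exact invol 1 _ m2
    · exact c01 _ hM₀
    · exact c01 _ m2
    · rw [c01 _ (mem_ν 1 _ hM₀), invol 1 _ hM₀]
    · rw [c01 _ (mem_ν 1 _ m2), invol 1 _ m2]
  have flip2 : ∀ a b c, ν 2 (φ (a, b, c)) = φ (a, b, !c) := by
    intro a b c
    cases a <;> cases b <;> cases c <;>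
      simp only [hφ, hfdef, Bool.not_true, Bool.not_false, Bool.false_eq_true, if_true, if_false]
    · exact invol 2 _ hM₀
    · exact c12 _ hM₀
    · rw [c12 _ m2, invol 2 _ hM₀]
    · exact c02 _ hM₀
    · rw [c02 _ m2, invol 2 _ hM₀]
    · rw [c02 _ (mem_ν 1 _ hM₀), c12 _ hM₀]
    · rw [c02 _ (mem_ν 1 _ m2), c12 _ m2, invol 2 _ hM₀]
  have free : ∀ M ∈ J, ∀ i j k, i ≠ j → i ≠ k → j ≠ k → ν i M ≠ M ∧ ν j (ν i M) ≠ M ∧
      ν k (ν j (ν i M)) ≠ M := by
    intro M h i j k hij hik hjk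
    refine ⟨ν_ne i M h, fun e => ?_, fun e => ?_⟩
    · have := invol j _ (mem_ν i M h)
      rw [e] at this
      exact diff i j M h hij.symm (by rw [← this]; exact same j M h)
    · have h1 := mem_ν i M h
      have := invol k _ (mem_ν j _ h1)
      rw [e] at this
      exact no_tri i k M h hik j this.symm
  have hinj : Function.Injective φ := by
    intro u v huv
    by_contra hne
    obtain ⟨a, b, c⟩ := u
    obtain ⟨a', b', c'⟩ := v
    obtain ⟨g0, g01, g012⟩ := free _ (mem_φ (a, b, c)) 0 1 2 (by decide) (by decide) (by decide)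
    obtain ⟨g1, g12, -⟩ := free _ (mem_φ (a, b, c)) 1 2 0 (by decide) (by decide) (by decide)
    obtain ⟨g2, g20, -⟩ := free _ (mem_φ (a, b, c)) 2 0 1 (by decide) (by decide) (by decide)
    rw [flip0] at g0 g01 g012
    rw [flip1] at g1 g01 g012 g12
    rw [flip2] at g2 g012 g12 g20
    rw [flip0] at g20
    cases a <;> cases b <;> cases c <;> cases a' <;> cases b' <;> cases c' <;>
      first
      | exact hne rfl
      | exact g0 huv.symm
      | exact g1 huv.symm
      | exact g2 huv.symm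
      | exact g01 huv.symm
      | exact g12 huv.symm
      | exact g20 huv.symm
      | exact g012 huv.symm
  have himg : (univ.image φ) = J := eq_of_subset_of_card_le
    (fun M hM => by obtain ⟨u, -, rfl⟩ := mem_image.1 hM; exact mem_φ u)
    (by rw [card_image_of_injective _ hinj, hJc]; decide)
  have adj : ∀ u v, u ≠ v → ((Q (φ u) ∩ Q (φ v)).Nonempty ↔ oneDiff u v = true) := by
    intro u v huv
    obtain ⟨a, b, c⟩ := u
    constructor
    · intro h
      obtain ⟨i, hi, -⟩ := (hf _ (memJ.1 (mem_φ (a, b, c)))).2.2.2 _ (memJ.1 (mem_φ v))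
        (fun e => huv (hinj e).symm) h
      fin_cases i
      · have := hinj (hi.trans (flip0 a b c)); subst this; cases a <;> simp [oneDiff]
      · have := hinj (hi.trans (flip1 a b c)); subst this; cases b <;> simp [oneDiff]
      · have := hinj (hi.trans (flip2 a b c)); subst this; cases c <;> simp [oneDiff]
    · intro h
      have e0 := meet_ν 0 _ (mem_φ (a, b, c))
      have e1 := meet_ν 1 _ (mem_φ (a, b, c))
      have e2 := meet_ν 2 _ (mem_φ (a, b, c))
      rw [flip0] at e0; rw [flip1] at e1; rw [flip2] at e2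
      obtain ⟨a', b', c'⟩ := v
      cases a <;> cases b <;> cases c <;> cases a' <;> cases b' <;> cases c' <;>
        first | assumption | (simp [oneDiff] at h) | exact absurd rfl huv
  have hspread : ∀ U, IsSpread Q L U ↔ ∃ s : Finset (Bool × Bool × Bool), s.card = 4 ∧
      (∀ u ∈ s, ∀ v ∈ s, oneDiff u v = false) ∧ U = insert L (s.image φ) := by
    intro U
    constructor
    · rintro ⟨h5, hL, hd⟩
      have hsub : U.erase L ⊆ J := fun M hM => by
        rw [mem_erase] at hM; exact memJ.2 (hd M hM.2 L hL hM.1)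
      refine ⟨univ.filter fun u => φ u ∈ U.erase L, ?_, fun u hu v hv => ?_, ?_⟩
      · have : ((univ.filter fun u => φ u ∈ U.erase L).image φ) = U.erase L := by
          ext M
          simp only [mem_image, mem_filter, mem_univ, true_and]
          refine ⟨by rintro ⟨u, hu, rfl⟩; exact hu, fun hM => ?_⟩
          obtain ⟨u, -, rfl⟩ := mem_image.1 (himg.symm ▸ hsub hM : M ∈ univ.image φ)
          exact ⟨u, hM, rfl⟩
        rw [← card_image_of_injective _ hinj, this, card_erase_of_mem hL, h5]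
      · by_cases e : u = v
        · subst e; simp [oneDiff]
        · rw [← Bool.not_eq_true, ← adj u v e, not_nonempty_iff_eq_empty,
            ← disjoint_iff_inter_eq_empty]
          simp only [mem_filter, mem_univ, true_and, mem_erase] at hu hv
          exact hd _ hu.2 _ hv.2 fun h => e (hinj h)
      · ext M
        simp only [mem_insert, mem_image, mem_filter, mem_univ, true_and]
        constructor
        · intro hM
          by_cases e : M = L
          · exact Or.inl e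
          obtain ⟨u, -, rfl⟩ := mem_image.1 (himg.symm ▸ hsub (mem_erase.2 ⟨e, hM⟩) : M ∈ univ.image φ)
          exact Or.inr ⟨u, mem_erase.2 ⟨e, hM⟩, rfl⟩
        · rintro (rfl | ⟨u, hu, rfl⟩)
          exacts [hL, (mem_erase.1 hu).2]
    · rintro ⟨s, hs, hind, rfl⟩
      have hLs : L ∉ s.image φ := fun h => by
        obtain ⟨u, -, he⟩ := mem_image.1 h
        exact hLJ (he ▸ mem_φ u)
      refine ⟨by rw [card_insert_of_notMem hLs, card_image_of_injective _ hinj, hs], mem_insert_self _ _, ?_⟩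
      intro i hi j hj hij
      rw [mem_insert, mem_image] at hi hj
      rcases hi with rfl | ⟨u, hu, rfl⟩ <;> rcases hj with rfl | ⟨v, hv, rfl⟩
      · exact absurd rfl hij
      · exact (memJ.1 (mem_φ v)).symm
      · exact memJ.1 (mem_φ u)
      · rw [disjoint_iff_inter_eq_empty, ← not_nonempty_iff_eq_empty,
          adj u v (fun e => hij (congrArg φ e)), hind u hu v hv]
        simp
  set E : Bool → Finset (Bool × Bool × Bool) := fun b => univ.filter fun u => xor u.1 (xor u.2.1 u.2.2) = b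
  refine ⟨insert L ((E false).image φ), insert L ((E true).image φ), ?_, fun U => ?_⟩
  · intro h
    have hm : φ (true, false, false) ∈ insert L ((E true).image φ) :=
      mem_insert_of_mem (mem_image_of_mem φ (by simp [E]))
    rw [← h, mem_insert, mem_image] at hm
    rcases hm with e | ⟨u, hu, e⟩
    · exact hLJ (e ▸ mem_φ _)
    · rw [hinj e] at hu
      simp [E] at hu
  · rw [hspread]
    constructor
    · rintro ⟨s, hs, hind, rfl⟩
      rcases cube_check s (mem_powersetCard.2 ⟨subset_univ _, hs⟩) hind with e | e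
      exacts [Or.inl (e ▸ rfl), Or.inr (e ▸ rfl)]
    · have good : ∀ b, ∃ s : Finset (Bool × Bool × Bool), s.card = 4 ∧
          (∀ u ∈ s, ∀ v ∈ s, oneDiff u v = false) ∧ insert L ((E b).image φ) = insert L (s.image φ) :=
        fun b => ⟨E b, (cube_halves b).1,
          fun u hu v hv => (cube_halves b).2 u v (mem_filter.1 hu).2 (mem_filter.1 hv).2, rfl⟩
      rintro (rfl | rfl)
      exacts [good false, good true]

end Cfsg.Agent.Srg77
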