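import Cfsg.Agent.Lib.Srg77.Local
import Cfsg.Agent.Lib.Srg77.Spreads
import Cfsg.Agent.Lib.Hexad22.Main

/-!
A graph with parameters (77, 16, 0, 4) is the disjointness graph of an S(3,6,22), hence unique.
-/

set_option autoImplicit false

namespace Cfsg.Agent.Srg77

open Finset

variable {V : Type*} [Fintype V] [DecidableEq V] {G : SimpleGraph V} [DecidableRel G.Adj]

/-- A set of 21 pairwise nonadjacent vertices. -/
def IsCo (G : SimpleGraph V) (C : Finset V) : Prop := C.card = 21 ∧ ∀ a ∈ C, ∀ b ∈ C, ¬ G.Adj a b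

instance (C : Finset V) : Decidable (IsCo G C) := by unfold IsCo; infer_instance

variable (hG : G.IsSRGWith 77 16 0 4)
include hG

theorem six_in_co {C : Finset V} (hC : IsCo G C) {p : V} (hp : p ∉ C) :
    (C.filter fun z => G.Adj p z).card = 6 := by
  set O := (univ : Finset V) \ C with hO
  set n : V → ℕ := fun v => (C.filter fun z => G.Adj v z).card with hn
  have hOc : O.card = 56 := by rw [hO, card_sdiff_of_subset (subset_univ _), card_univ, hG.card, hC.1]
  have hN : ∀ a ∈ C, (univ.filter fun z => G.Adj a z) ⊆ O := fun a ha z hz =>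
    mem_sdiff.2 ⟨mem_univ _, fun hzC => hC.2 a ha z hzC (mem_filter.1 hz).2⟩
  have hs1 : ∑ v ∈ O, n v = 336 := by
    have h := sum_card_bipartiteAbove_eq_sum_card_bipartiteBelow (fun v z => G.Adj v z) (s := O) (t := C)
    have hb : ∀ a ∈ C, (O.bipartiteBelow (fun v z => G.Adj v z) a).card = 16 := fun a ha => by
      rw [← card_adj hG a]
      congr 1
      ext z
      simp only [bipartiteBelow, mem_filter, mem_univ, true_and]
      exact ⟨fun h => h.2.symm, fun h => ⟨hN a ha (mem_filter.2 ⟨mem_univ _, h⟩), h.symm⟩⟩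
    rw [sum_const_nat hb, hC.1] at h
    exact h
  have hs2 : ∑ v ∈ O, n v * n v = 2016 := by
    have h := sum_card_bipartiteAbove_eq_sum_card_bipartiteBelow
      (fun (v : V) (t : V × V) => G.Adj v t.1 ∧ G.Adj v t.2) (s := O) (t := C ×ˢ C)
    have hb : ∀ t ∈ C ×ˢ C, (O.bipartiteBelow (fun (v : V) (t : V × V) => G.Adj v t.1 ∧ G.Adj v t.2) t).card =
        if t.1 = t.2 then 16 else 4 := by
      intro t ht
      rw [mem_product] at ht
      have hset : O.bipartiteBelow (fun (v : V) (t : V × V) => G.Adj v t.1 ∧ G.Adj v t.2) t =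
          univ.filter fun z => G.Adj t.1 z ∧ G.Adj t.2 z := by
        ext z
        simp only [bipartiteBelow, mem_filter, mem_univ, true_and]
        exact ⟨fun h => ⟨h.2.1.symm, h.2.2.symm⟩,
          fun h => ⟨hN t.1 ht.1 (mem_filter.2 ⟨mem_univ _, h.1⟩), h.1.symm, h.2.symm⟩⟩
      rw [hset]
      by_cases he : t.1 = t.2
      · rw [if_pos he, ← card_adj hG t.2]
        simp [he]
      · rw [if_neg he, card_common hG t.1 t.2 he, if_neg (hC.2 _ ht.1 _ ht.2)]
    rw [sum_congr rfl hb, sum_ite, sum_const, sum_const,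
      show ((C ×ˢ C).filter fun t => t.1 = t.2) = C.diag by
        ext ⟨a, b⟩; simp [mem_diag]; exact fun e h => e ▸ h,
      show ((C ×ˢ C).filter fun t => ¬ t.1 = t.2) = C.offDiag by
        ext ⟨a, b⟩; simp [mem_offDiag, and_assoc],
      diag_card, offDiag_card, hC.1] at h
    rw [show (2016 : ℕ) = 21 • 16 + (21 * 21 - 21) • 4 by rfl, ← h]
    refine sum_congr rfl fun v _ => ?_
    simp only [hn, ← card_product]
    congr 1
    ext ⟨a, b⟩
    simp only [bipartiteAbove, mem_product, mem_filter]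
    tauto
  have hz : ∑ v ∈ O, ((n v : ℤ) - 6) * ((n v : ℤ) - 6) = 0 := by
    have e : ∀ v, ((n v : ℤ) - 6) * ((n v : ℤ) - 6) = ((n v * n v : ℕ) : ℤ) - 12 * (n v : ℤ) + 36 :=
      fun v => by push_cast; ring
    rw [sum_congr rfl fun v _ => e v, sum_add_distrib, sum_sub_distrib, ← mul_sum, sum_const,
      ← Nat.cast_sum, ← Nat.cast_sum, hs1, hs2, hOc]
    norm_num
  have := (sum_eq_zero_iff_of_nonneg fun v _ => mul_self_nonneg _).1 hz p (mem_sdiff.2 ⟨mem_univ _, hp⟩)
  have h6 : (n p : ℤ) = 6 := by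
    rcases mul_eq_zero.1 this with h | h <;> linarith
  exact_mod_cast h6

theorem co_structure {x : V} {C : Finset V} (hC : IsCo G C) (hx : x ∈ C) {y : V} (hy : y ∈ C)
    (hyx : y ≠ x) : Far G x y ∧ cls G x y ⊆ C ∧ ∀ z ∈ C, z ≠ x → z ∉ cls G x y → meet G x y z = 1 := by
  have hfar : ∀ z ∈ C, z ≠ x → Far G x z := fun z hz hne => ⟨hne, hC.2 x hx z hz⟩
  have hyF := hfar y hy hyx
  set R := (C.erase x).erase y with hR
  have hRc : R.card = 19 := by
    rw [hR, card_erase_of_mem (mem_erase.2 ⟨hyx, hy⟩), card_erase_of_mem hx, hC.1]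
  have hsum : ∑ z ∈ R, meet G x y z = 16 := by
    have h := sum_card_bipartiteAbove_eq_sum_card_bipartiteBelow
      (fun (p z : V) => p ∈ blk G x z) (s := blk G x y) (t := R)
    have hb : ∀ p ∈ blk G x y, (R.bipartiteAbove (fun p z => p ∈ blk G x z) p).card = 4 := by
      intro p hp
      rw [mem_blk] at hp
      have hpC : p ∉ C := fun h => hC.2 x hx p h hp.1
      have hset : R.bipartiteAbove (fun p z => p ∈ blk G x z) p =
          ((C.filter fun z => G.Adj p z).erase x).erase y := by
        ext z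
        simp only [bipartiteAbove, hR, mem_filter, mem_erase, mem_blk]
        exact ⟨fun h => ⟨h.1.1, h.1.2.1, h.1.2.2, h.2.2.symm⟩,
          fun h => ⟨⟨h.1, h.2.1, h.2.2.1⟩, hp.1, h.2.2.2.symm⟩⟩
      rw [hset, card_erase_of_mem (mem_erase.2 ⟨hyx, mem_filter.2 ⟨hy, hp.2.symm⟩⟩),
        card_erase_of_mem (mem_filter.2 ⟨hx, hp.1.symm⟩), six_in_co hG hC hpC]
    rw [sum_const_nat hb, card_blk hG hyF] at h
    rw [show (16 : ℕ) = 4 * 4 from rfl, h]
    exact sum_congr rfl fun z _ => by rw [bipartiteBelow, filter_mem_eq_inter]; rfl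
  set Z := R.filter fun z => ¬ Rel G x y z with hZ
  have hpos : ∀ z ∈ Z, 1 ≤ meet G x y z := by
    intro z hz
    rw [hZ, mem_filter, hR, mem_erase, mem_erase] at hz
    by_contra h
    exact hz.2 ⟨hyF, hfar z hz.1.2.2 hz.1.2.1, hz.1.1.symm, hC.2 y hy z hz.1.2.2,
      disjoint_of_meet (by omega)⟩
  have hW : (R.filter fun z => Rel G x y z) ⊆ univ.filter fun z => Rel G x y z := fun z hz =>
    mem_filter.2 ⟨mem_univ _, (mem_filter.1 hz).2⟩
  have h3 := card_le_card hW
  rw [card_rel hG hyF] at h3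
  have hsplit := card_filter_add_card_filter_not (s := R) (fun z => Rel G x y z)
  have hge := card_nsmul_le_sum Z (fun z => meet G x y z) 1 hpos
  have hle := sum_le_sum_of_subset (f := fun z => meet G x y z) (filter_subset (fun z => ¬ Rel G x y z) R)
  rw [smul_eq_mul, mul_one] at hge
  have hge' := hge.trans hle
  rw [← hZ] at hsplit
  have hWc : (R.filter fun z => Rel G x y z).card = 3 := by omega
  have hWeq := eq_of_subset_of_card_le hW (by rw [hWc, card_rel hG hyF])
  refine ⟨hyF, fun z hz => ?_, fun z hz hzx hout => ?_⟩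
  · rcases mem_cls.1 hz with rfl | h
    · exact hy
    · have : z ∈ R.filter fun z => Rel G x y z := hWeq.symm ▸ mem_filter.2 ⟨mem_univ _, h⟩
      exact mem_of_mem_erase (mem_of_mem_erase (mem_filter.1 this).1)
  · have hzZ : z ∈ Z := mem_filter.2 ⟨mem_erase.2 ⟨fun e => hout (by rw [e]; exact self_mem_cls x y),
      mem_erase.2 ⟨hzx, hz⟩⟩, fun h => hout (mem_cls.2 (Or.inr h))⟩
    have hall : ∑ w ∈ Z, meet G x y w = ∑ w ∈ Z, 1 := by
      rw [sum_const, smul_eq_mul, mul_one]
      have h16 : ∑ w ∈ Z, meet G x y w ≤ 16 := hsum ▸ hle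
      have hge2 : Z.card ≤ ∑ w ∈ Z, meet G x y w := hge
      omega
    exact (((sum_eq_sum_iff_of_le hpos).1 hall.symm) z hzZ).symm

/-- The lines at a point of a block family. -/
abbrev Line (G : SimpleGraph V) [DecidableRel G.Adj] (x p : V) : Type _ :=
  {y : V // Far G x y ∧ p ∈ blk G x y}

/-- The other neighbours of the centre. -/
abbrev Other (G : SimpleGraph V) (x p : V) : Type _ := {q : V // G.Adj x q ∧ q ≠ p}

omit hG in
/-- The other three points of a block. -/
def lineQ (G : SimpleGraph V) [DecidableRel G.Adj] (x p : V) (y : Line G x p) : Finset (Other G x p) :=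
  univ.filter fun q => q.1 ∈ blk G x y.1

omit hG in
theorem mem_lineQ {x p : V} {y : Line G x p} {q : Other G x p} :
    q ∈ lineQ G x p y ↔ q.1 ∈ blk G x y.1 := by simp [lineQ]

theorem meet_of_two {x y z p q : V} (hy : Far G x y) (hz : Far G x z) (hne : y ≠ z) (hpq : p ≠ q)
    (h1 : p ∈ blk G x y) (h2 : p ∈ blk G x z) (h3 : q ∈ blk G x y) (h4 : q ∈ blk G x z) :
    meet G x y z = 2 :=
  le_antisymm (inter_le_two hG hy hz hne) (by
    rw [← card_pair hpq]
    exact card_le_card (by simp [insert_subset_iff, h1, h2, h3, h4]))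

theorem config {x p : V} (hp : G.Adj x p) : Config (lineQ G x p) where
  card_line y := by
    have h : (lineQ G x p y).map (Function.Embedding.subtype _) = (blk G x y.1).erase p := by
      ext q
      simp only [mem_map, mem_lineQ, Function.Embedding.coe_subtype, mem_erase]
      exact ⟨by rintro ⟨r, hr, rfl⟩; exact ⟨r.2.2, hr⟩,
        fun ⟨h1, h2⟩ => ⟨⟨q, (mem_blk.1 h2).1, h1⟩, h2, rfl⟩⟩
    rw [← card_map (Function.Embedding.subtype _), h, card_erase_of_mem y.2.2, card_blk hG y.2.1]
  card_lines := by rw [Fintype.card_subtype]; exact card_far_through hG hp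
  card_points := by
    rw [Fintype.card_subtype]
    have : (univ.filter fun q => G.Adj x q ∧ q ≠ p) = (univ.filter fun q => G.Adj x q).erase p := by
      ext q; simp [and_comm]
    rw [this, card_erase_of_mem (by simp [hp]), card_adj hG x]
  deg q := by
    rw [← card_map (Function.Embedding.subtype _), ← card_far_pair hG hp q.2.1 q.2.2.symm]
    congr 1
    ext y
    simp only [mem_map, mem_filter, mem_univ, true_and, mem_lineQ, Function.Embedding.coe_subtype]
    exact ⟨by rintro ⟨r, hr, rfl⟩; exact ⟨r.2.1, r.2.2, hr⟩,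
      fun h => ⟨⟨y, h.1, h.2.1⟩, h.2.2, rfl⟩⟩
  lin y z hne := by
    refine card_le_one.2 fun a ha b hb => ?_
    rw [mem_inter, mem_lineQ, mem_lineQ] at ha hb
    by_contra hab
    have hs : ({p, a.1, b.1} : Finset V) ⊆ blk G x y.1 ∩ blk G x z.1 := by
      simp [insert_subset_iff, y.2.2, z.2.2, ha.1, ha.2, hb.1, hb.2]
    have h := (card_le_card hs).trans (inter_le_two hG y.2.1 z.2.1 fun e => hne (Subtype.ext e))
    rw [card_insert_of_notMem (by simp [a.2.2.symm, b.2.2.symm]),
      card_pair fun e => hab (Subtype.ext e)] at h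
    omega
  tri i j k hij hik hjk a ha b hb c hc := by
    rw [mem_inter, mem_lineQ, mem_lineQ] at ha hb hc
    have hak := triangle hG i.2.1 j.2.1 k.2.1 (fun e => hij (Subtype.ext e)) (fun e => hik (Subtype.ext e))
      (fun e => hjk (Subtype.ext e)) i.2.2 j.2.2 k.2.2 b.2.2 c.2.2 a.2.2 hb.1 hb.2 hc.1 hc.2 ha.1 ha.2
    by_contra hab
    have hs : ({p, a.1, b.1} : Finset V) ⊆ blk G x j.1 ∩ blk G x k.1 := by
      simp [insert_subset_iff, j.2.2, k.2.2, ha.2, hak, hb.1, hb.2]
    have h := (card_le_card hs).trans (inter_le_two hG j.2.1 k.2.1 fun e => hjk (Subtype.ext e))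
    rw [card_insert_of_notMem (by simp [a.2.2.symm, b.2.2.symm]),
      card_pair fun e => hab (Subtype.ext e)] at h
    omega

theorem line_notMem_cls {x p : V} {i j : Line G x p} (hne : i ≠ j) : j.1 ∉ cls G x i.1 :=
  notMem_cls_of_meet hG (fun e => hne (Subtype.ext e.symm)) (meet_pos j.2.2 i.2.2)

theorem disjoint_lineQ_iff {x p : V} {i j : Line G x p} (hne : i ≠ j) :
    Disjoint (lineQ G x p i) (lineQ G x p j) ↔ meet G x i.1 j.1 = 1 := by
  constructor
  · intro hd
    have hsub : blk G x i.1 ∩ blk G x j.1 ⊆ {p} := fun q hq => by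
      rw [mem_inter] at hq
      rw [mem_singleton]
      by_contra hqp
      exact disjoint_left.1 hd (mem_lineQ.2 (show (⟨q, (mem_blk.1 hq.1).1, hqp⟩ : Other G x p).1 ∈ _ from hq.1))
        (mem_lineQ.2 hq.2)
    have h := card_le_card hsub
    rw [card_singleton] at h
    exact le_antisymm h (meet_pos i.2.2 j.2.2)
  · intro h
    refine disjoint_left.2 fun q hq hq' => ?_
    rw [mem_lineQ] at hq hq'
    have := meet_of_two hG i.2.1 j.2.1 (fun e => hne (Subtype.ext e)) q.2.2.symm i.2.2 j.2.2 hq hq'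
    omega

theorem meet_cls {x p : V} {i j : Line G x p} (hne : i ≠ j) (h : meet G x i.1 j.1 = 1)
    {a b : V} (ha : a ∈ cls G x i.1) (hb : b ∈ cls G x j.1) : meet G x a b = 1 := by
  have haj : meet G x a j.1 = 1 := by
    rw [meet_comm]
    exact meet_one hG i.2.1 j.2.1 (line_notMem_cls hG hne) (by rw [meet_comm]; exact h) ha
  refine meet_one hG j.2.1 (far_of_mem_cls i.2.1 ha) (fun hmem => ?_) haj hb
  exact line_notMem_cls hG hne.symm (by
    rw [← cls_eq hG hmem, cls_eq hG ha]; exact self_mem_cls x i.1)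

/-- The cocliques through a vertex correspond to the spreads. -/
theorem co_image {x p : V} (hp : G.Adj x p) :
    ∃ Φ : Finset (Line G x p) → Finset V,
      (∀ U U', Φ U = Φ U' → U = U') ∧
      (∀ U L, IsSpread (lineQ G x p) L U → IsCo G (Φ U) ∧ x ∈ Φ U) ∧
      (∀ U (i : Line G x p), i.1 ∈ Φ U ↔ i ∈ U) ∧
      (∀ C, IsCo G C → x ∈ C → ∃ U L, IsSpread (lineQ G x p) L U ∧ Φ U = C) := by
  refine ⟨fun U => insert x (U.biUnion fun i => cls G x i.1), ?_⟩
  have hmem : ∀ (U : Finset (Line G x p)) (i : Line G x p), i.1 ∈ insert x (U.biUnion fun i => cls G x i.1) ↔ i ∈ U := by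
    intro U i
    constructor
    · intro h
      rw [mem_insert, mem_biUnion] at h
      rcases h with h | ⟨j, hj, h⟩
      · exact absurd h i.2.1.1
      · by_contra hi
        exact line_notMem_cls hG (fun e : j = i => hi (e ▸ hj)) h
    · intro h
      exact mem_insert_of_mem (mem_biUnion.2 ⟨i, h, self_mem_cls x i.1⟩)
  refine ⟨fun U U' h => ?_, ?_, hmem, ?_⟩
  · ext i
    rw [← hmem U i, ← hmem U' i]
    simp only at h
    rw [h]
  · rintro U L ⟨h5, -, hd⟩
    have hxn : x ∉ U.biUnion fun i => cls G x i.1 := by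
      rw [mem_biUnion]
      rintro ⟨i, -, h⟩
      exact (far_of_mem_cls i.2.1 h).1 rfl
    refine ⟨⟨?_, ?_⟩, mem_insert_self _ _⟩
    · rw [card_insert_of_notMem hxn, card_biUnion, sum_const_nat (fun i _ => card_cls hG i.2.1), h5]
      intro i _ j _ hne
      refine disjoint_left.2 fun a ha hb => line_notMem_cls hG hne ?_
      rw [← cls_eq hG ha, cls_eq hG hb]
      exact self_mem_cls x j.1
    · intro a ha b hb hab
      rw [mem_insert, mem_biUnion] at ha hb
      rcases ha with rfl | ⟨i, hi, ha⟩ <;> rcases hb with rfl | ⟨j, hj, hb⟩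
      · exact G.irrefl hab
      · exact (far_of_mem_cls j.2.1 hb).2 hab
      · exact (far_of_mem_cls i.2.1 ha).2 hab.symm
      · by_cases hij : i = j
        · subst hij
          by_cases he : a = b
          · exact G.irrefl (he ▸ hab)
          rw [← cls_eq hG ha] at hb
          exact ((mem_cls.1 hb).resolve_left (Ne.symm he)).2.2.2.1 hab
        · have h1 := meet_cls hG hij ((disjoint_lineQ_iff hG hij).1 (hd i hi j hj hij)) ha hb
          exact not_adj_of_meet hG (h1 ▸ Nat.one_pos) hab
  · intro C hC hx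
    set U := univ.filter fun i : Line G x p => i.1 ∈ C with hU
    have hpC : p ∉ C := fun h => hC.2 x hx p h hp
    have h5 : U.card = 5 := by
      have h : U.map (Function.Embedding.subtype _) = (C.filter fun z => G.Adj p z).erase x := by
        ext z
        simp only [hU, mem_map, mem_filter, mem_univ, true_and, Function.Embedding.coe_subtype, mem_erase]
        constructor
        · rintro ⟨i, hi, rfl⟩
          exact ⟨i.2.1.1, hi, (mem_blk.1 i.2.2).2.symm⟩
        · rintro ⟨hzx, hzC, hpz⟩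
          exact ⟨⟨z, ⟨hzx, hC.2 x hx z hzC⟩, mem_blk.2 ⟨hp, hpz.symm⟩⟩, hzC, rfl⟩
      rw [← card_map (Function.Embedding.subtype _), h,
        card_erase_of_mem (mem_filter.2 ⟨hx, hp.symm⟩), six_in_co hG hC hpC]
    have hd : ∀ i ∈ U, ∀ j ∈ U, i ≠ j → Disjoint (lineQ G x p i) (lineQ G x p j) := by
      intro i hi j hj hij
      simp only [hU, mem_filter, mem_univ, true_and] at hi hj
      exact (disjoint_lineQ_iff hG hij).2
        ((co_structure hG hC hx hi i.2.1.1).2.2 j.1 hj j.2.1.1 (line_notMem_cls hG hij))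
    obtain ⟨L, hL⟩ := card_pos.1 (show 0 < U.card by omega)
    refine ⟨U, L, ⟨h5, hL, hd⟩, ?_⟩
    have hsub : insert x (U.biUnion fun i => cls G x i.1) ⊆ C := by
      refine insert_subset hx fun z hz => ?_
      obtain ⟨i, hi, hz⟩ := mem_biUnion.1 hz
      exact (co_structure hG hC hx (mem_filter.1 hi).2 i.2.1.1).2.1 hz
    refine eq_of_subset_of_card_le hsub ?_
    rw [card_insert_of_notMem (fun h => by
        obtain ⟨i, -, h⟩ := mem_biUnion.1 h
        exact (far_of_mem_cls i.2.1 h).1 rfl), card_biUnion, sum_const_nat (fun i _ => card_cls hG i.2.1),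
      h5, hC.1]
    intro i _ j _ hne
    refine disjoint_left.2 fun a ha hb => line_notMem_cls hG hne ?_
    rw [← cls_eq hG ha, cls_eq hG hb]
    exact self_mem_cls x j.1

omit hG in
/-- The cocliques of size 21. -/
abbrev Pt (G : SimpleGraph V) : Type _ := {C : Finset V // IsCo G C}

omit hG in
/-- The cocliques through a vertex. -/
def star (G : SimpleGraph V) [DecidableRel G.Adj] (v : V) : Finset (Pt G) :=
  univ.filter fun C => v ∈ C.1

theorem card_star (x : V) : (star G x).card = 6 := by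
  classical
  obtain ⟨p, hp⟩ := card_pos.1 (show 0 < (univ.filter fun z => G.Adj x z).card by
    rw [card_adj hG x]; norm_num)
  rw [mem_filter] at hp
  obtain ⟨Φ, hinj, hfwd, hmem, hback⟩ := co_image hG hp.2
  have hC := config hG hp.2
  set SP := (univ : Finset (Finset (Line G x p))).filter
    fun U => ∃ L, IsSpread (lineQ G x p) L U with hSP
  have h6 : SP.card = 6 := by
    have h := sum_card_bipartiteAbove_eq_sum_card_bipartiteBelow
      (fun (U : Finset (Line G x p)) (i : Line G x p) => i ∈ U) (s := SP) (t := univ)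
    have ha : ∀ U ∈ SP, ((univ : Finset (Line G x p)).bipartiteAbove (fun U i => i ∈ U) U).card = 5 := by
      intro U hU
      obtain ⟨L, h5, -⟩ := (mem_filter.1 hU).2
      rw [bipartiteAbove, filter_mem_eq_inter, univ_inter]
      exact h5
    have hb : ∀ i ∈ (univ : Finset (Line G x p)), (SP.bipartiteBelow (fun U i => i ∈ U) i).card = 2 := by
      intro i _
      obtain ⟨S, T, hne, hiff⟩ := hC.two_spreads i
      rw [show SP.bipartiteBelow (fun U i => i ∈ U) i = {S, T} from ?_, card_pair hne]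
      ext U
      simp only [bipartiteBelow, hSP, mem_filter, mem_univ, true_and, mem_insert, mem_singleton, ← hiff]
      exact ⟨fun ⟨⟨L, h1, _, h3⟩, hi⟩ => ⟨h1, hi, h3⟩, fun h => ⟨⟨i, h⟩, h.2.1⟩⟩
    rw [sum_const_nat ha, sum_const_nat hb, card_univ, hC.card_lines] at h
    omega
  rw [← h6, ← card_map (Function.Embedding.subtype _)]
  have : (star G x).map (Function.Embedding.subtype _) = SP.image Φ := by
    ext C
    simp only [star, mem_map, mem_filter, mem_univ, true_and, Function.Embedding.coe_subtype, mem_image]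
    constructor
    · rintro ⟨D, hD, rfl⟩
      obtain ⟨U, L, hU, he⟩ := hback D.1 D.2 hD
      exact ⟨U, mem_filter.2 ⟨mem_univ _, L, hU⟩, he⟩
    · rintro ⟨U, hU, rfl⟩
      obtain ⟨L, hL⟩ := (mem_filter.1 hU).2
      exact ⟨⟨Φ U, (hfwd U L hL).1⟩, (hfwd U L hL).2, rfl⟩
  rw [this, card_image_of_injective _ hinj]

theorem card_star_pair {x y : V} (h : Far G x y) : (star G x ∩ star G y).card = 2 := by
  classical
  obtain ⟨p, hp⟩ := card_pos.1 (show 0 < (blk G x y).card by rw [card_blk hG h]; norm_num)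
  obtain ⟨Φ, hinj, hfwd, hmem, hback⟩ := co_image hG (mem_blk.1 hp).1
  set i : Line G x p := ⟨y, h, hp⟩ with hi
  obtain ⟨S, T, hne, hiff⟩ := (config hG (mem_blk.1 hp).1).two_spreads i
  rw [← card_map (Function.Embedding.subtype _)]
  have : (star G x ∩ star G y).map (Function.Embedding.subtype _) = ({S, T} : Finset _).image Φ := by
    ext C
    simp only [star, mem_map, mem_inter, mem_filter, mem_univ, true_and, Function.Embedding.coe_subtype,
      mem_image, mem_insert, mem_singleton, ← hiff]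
    constructor
    · rintro ⟨D, ⟨hDx, hDy⟩, rfl⟩
      obtain ⟨U, L, ⟨h1, -, h3⟩, he⟩ := hback D.1 D.2 hDx
      exact ⟨U, ⟨h1, (hmem U i).1 (by rw [he]; exact hDy), h3⟩, he⟩
    · rintro ⟨U, hU, rfl⟩
      exact ⟨⟨Φ U, (hfwd U i hU).1⟩, ⟨(hfwd U i hU).2, (hmem U i).2 hU.2.1⟩, rfl⟩
  rw [this, card_image_of_injective _ hinj, card_pair hne]

theorem adj_iff_star (x y : V) : G.Adj x y ↔ x ≠ y ∧ Disjoint (star G x) (star G y) := by
  refine ⟨fun h => ⟨h.ne, disjoint_left.2 fun C hx hy => ?_⟩, fun ⟨hne, hd⟩ => ?_⟩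
  · exact C.2.2 x (mem_filter.1 hx).2 y (mem_filter.1 hy).2 h
  · by_contra h
    have := card_star_pair hG (x := x) (y := y) ⟨hne.symm, h⟩
    rw [disjoint_iff_inter_eq_empty.1 hd] at this
    simp at this

theorem star_inter_le {x y : V} (hne : x ≠ y) : (star G x ∩ star G y).card ≤ 2 := by
  by_cases h : G.Adj x y
  · rw [disjoint_iff_inter_eq_empty.1 ((adj_iff_star hG x y).1 h).2]; simp
  · exact (card_star_pair hG ⟨hne.symm, h⟩).le

theorem star_injective : Function.Injective (star G) := by
  intro x y e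
  by_contra hne
  have h := star_inter_le hG hne
  rw [e, inter_self, card_star hG y] at h
  omega

theorem card_pt : Fintype.card (Pt G) = 22 := by
  have h := sum_card_bipartiteAbove_eq_sum_card_bipartiteBelow
    (fun (x : V) (C : Pt G) => x ∈ C.1) (s := univ) (t := univ)
  have ha : ∀ x ∈ (univ : Finset V),
      ((univ : Finset (Pt G)).bipartiteAbove (fun (x : V) (C : Pt G) => x ∈ C.1) x).card = 6 :=
    fun x _ => card_star hG x
  have hb : ∀ C ∈ (univ : Finset (Pt G)),
      ((univ : Finset V).bipartiteBelow (fun (x : V) (C : Pt G) => x ∈ C.1) C).card = 21 := fun C _ => by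
    rw [bipartiteBelow, filter_mem_eq_inter, univ_inter]; exact C.2.1
  rw [sum_const_nat ha, sum_const_nat hb, card_univ, card_univ, hG.card] at h
  omega

theorem star_steiner : Cfsg.IsSteinerSystem 3 6 (Set.range (star G)) := by
  classical
  refine ⟨by rintro _ ⟨x, rfl⟩; exact card_star hG x, fun s hs => ?_⟩
  set P := (univ : Finset V).biUnion fun x => (star G x).powersetCard 3 with hP
  have hPc : P.card = 1540 := by
    rw [hP, card_biUnion, sum_const_nat (fun x _ => by rw [card_powersetCard, card_star hG x]), card_univ,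
      hG.card]
    · rfl
    intro x _ y _ hne
    refine disjoint_left.2 fun t ht ht' => ?_
    rw [mem_powersetCard] at ht ht'
    have := (card_le_card (subset_inter ht.1 ht'.1)).trans (star_inter_le hG hne)
    omega
  have hall : P = (univ : Finset (Pt G)).powersetCard 3 :=
    eq_of_subset_of_card_le (fun t ht => by
      obtain ⟨x, -, ht⟩ := mem_biUnion.1 ht
      exact mem_powersetCard.2 ⟨subset_univ _, (mem_powersetCard.1 ht).2⟩)
      (by rw [hPc, card_powersetCard, card_univ, card_pt hG]; rfl)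
  obtain ⟨x, -, hx⟩ := mem_biUnion.1 (hall.symm ▸ mem_powersetCard.2 ⟨subset_univ _, hs⟩ : s ∈ P)
  rw [mem_powersetCard] at hx
  refine ⟨star G x, ⟨⟨x, rfl⟩, hx.1⟩, ?_⟩
  rintro _ ⟨⟨y, rfl⟩, hy⟩
  by_contra hne
  have := (card_le_card (subset_inter hy hx.1)).trans
    (star_inter_le hG fun e : y = x => hne (e ▸ rfl))
  omega

omit hG in
/-- Graphs with parameters (77,16,0,4) are isomorphic. -/
theorem exists_iso {W : Type*} [Fintype W] [DecidableEq W] {H : SimpleGraph W} [DecidableRel H.Adj]
    (hG : G.IsSRGWith 77 16 0 4) (hH : H.IsSRGWith 77 16 0 4) : Nonempty (G ≃g H) := by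
  classical
  obtain ⟨e, he⟩ := Hexad22.exists_iso_22 (card_pt hG) (card_pt hH) (star_steiner hG) (star_steiner hH)
  choose f hf using fun x : V => (he (star G x)).1 ⟨x, rfl⟩
  have hfi : Function.Injective f := fun x y h => star_injective hG
    (Finset.image_injective e.injective ((hf x).symm.trans ((congrArg (star H) h).trans (hf y))))
  have hb : Function.Bijective f :=
    (Fintype.bijective_iff_injective_and_card f).2 ⟨hfi, by rw [hG.card, hH.card]⟩
  refine ⟨⟨Equiv.ofBijective f hb, ?_⟩⟩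
  intro x y
  show H.Adj (f x) (f y) ↔ G.Adj x y
  rw [adj_iff_star hH, adj_iff_star hG, hf, hf, disjoint_image e.injective, hfi.ne_iff]

end Cfsg.Agent.Srg77
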