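import Cfsg.Agent.Lib.Srg77.Form

/-!
The restrictions on blocks: the blocks of the far vertices seen from one vertex.
-/

set_option autoImplicit false

namespace Cfsg.Agent.Srg77

open Finset

variable {V : Type*} [Fintype V] [DecidableEq V] {G : SimpleGraph V} [DecidableRel G.Adj]

/-- Neither equal nor adjacent. -/
def Far (G : SimpleGraph V) (x y : V) : Prop := y ≠ x ∧ ¬ G.Adj x y

instance (x y : V) : Decidable (Far G x y) := by unfold Far; infer_instance

/-- The block of `y`: its neighbours among those of `x`. -/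
def blk (G : SimpleGraph V) [DecidableRel G.Adj] (x y : V) : Finset V :=
  univ.filter fun p => G.Adj x p ∧ G.Adj y p

theorem mem_blk {x y p : V} : p ∈ blk G x y ↔ G.Adj x p ∧ G.Adj y p := by simp [blk]

/-- The indicator. -/
def ind (S : Finset V) (z : V) : ℤ := if z ∈ S then 1 else 0

theorem sum_ind (S : Finset V) : ∑ z, ind S z = S.card := by simp [ind]

theorem sum_ind_mul (S T : Finset V) : ∑ z, ind S z * ind T z = (S ∩ T).card := by
  simp [ind, inter_comm]

theorem adj_sum (S T : Finset V) : ∑ z, ∑ w, adjI G z w * ind S z * ind T w =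
    ∑ z ∈ S, ∑ w ∈ T, adjI G z w := by
  simp [ind, mul_ite, ite_mul, sum_ite_mem]

theorem bf_ind (S T : Finset V) : bf G (ind S) (ind T) =
    22 * ((S ∩ T).card : ℤ) + 2 * S.card * T.card - 11 * ∑ z ∈ S, ∑ w ∈ T, adjI G z w := by
  simp only [bf, sum_ind, sum_ind_mul, adj_sum]

/-- The certificate's value: `x` gets `a`, the far vertices `c`, their blocks `d`. -/
def certVal {n : ℕ} (I : Fin n → Fin n → ℕ) (A : Fin n → Fin n → Bool) (a : ℤ)
    (c d : Fin n → ℤ) : ℤ :=
  24 * (a * a) + (∑ i, (4 * (a * c i) - 72 * (a * d i))) +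
    ∑ i, ∑ j, ((if i = j then 24 else if A i j then -9 else 2) * (c i * c j) +
      2 * (8 - 11 * (I i j : ℤ)) * (c i * d j) + (32 + 22 * (I i j : ℤ)) * (d i * d j))

variable (hG : G.IsSRGWith 77 16 0 4)
include hG

theorem card_blk {x y : V} (h : Far G x y) : (blk G x y).card = 4 := by
  rw [blk, card_common hG x y h.1.symm, if_neg h.2]

theorem blk_coclique {x p q : V} (hp : G.Adj x p) (hq : G.Adj x q) : ¬ G.Adj p q := fun h =>
  no_triangle hG hp hq h

theorem cert {n : ℕ} (x : V) (y : Fin n → V) (hy : ∀ i, Far G x (y i))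
    (hinj : ∀ i j, i ≠ j → y i ≠ y j) (I : Fin n → Fin n → ℕ) (A : Fin n → Fin n → Bool)
    (hI : ∀ i j, (blk G x (y i) ∩ blk G x (y j)).card = I i j)
    (hA : ∀ i j, i ≠ j → (A i j = true ↔ G.Adj (y i) (y j))) (a : ℤ) (c d : Fin n → ℤ) :
    0 ≤ certVal I A a c d := by
  let g : Unit ⊕ (Fin n ⊕ Fin n) → V → ℤ := fun k => match k with
    | .inl _ => ind {x}
    | .inr (.inl i) => ind {y i}
    | .inr (.inr i) => ind (blk G x (y i))
  let w : Unit ⊕ (Fin n ⊕ Fin n) → ℤ := fun k => match k with
    | .inl _ => a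
    | .inr (.inl i) => c i
    | .inr (.inr i) => d i
  have hadj0 : ∀ z, adjI G z z = 0 := fun z => by simp [adjI]
  have xx : bf G (ind {x}) (ind {x}) = 24 := by simp [bf_ind, hadj0]
  have xy : ∀ i, bf G (ind {x}) (ind {y i}) = 2 := fun i => by
    simp [bf_ind, adjI, (hy i).2, (hy i).1.symm]
  have xb : ∀ i, bf G (ind {x}) (ind (blk G x (y i))) = -36 := fun i => by
    have h1 : ({x} : Finset V) ∩ blk G x (y i) = ∅ := by simp [mem_blk]
    have h2 : ∑ w ∈ blk G x (y i), adjI G x w = 4 := by
      rw [sum_eq_card_nsmul (b := (1 : ℤ)) fun w hw => by simp [adjI, (mem_blk.1 hw).1]]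
      simp [card_blk hG (hy i)]
    rw [bf_ind, h1, sum_singleton, h2, card_blk hG (hy i)]
    simp
  have yy : ∀ i j, bf G (ind {y i}) (ind {y j}) = if i = j then 24 else if A i j then -9 else 2 := by
    intro i j
    by_cases hij : i = j
    · subst hij; simp [bf_ind, hadj0]
    · have hne := hinj i j hij
      rw [if_neg hij, bf_ind, sum_singleton, sum_singleton,
        singleton_inter_of_notMem (by simpa using hne)]
      by_cases h : A i j = true
      · simp [adjI, (hA i j hij).1 h, h]
      · simp [adjI, mt (hA i j hij).2 h, h]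
  have yb : ∀ i j, bf G (ind {y i}) (ind (blk G x (y j))) = 8 - 11 * (I i j : ℤ) := by
    intro i j
    have h1 : ({y i} : Finset V) ∩ blk G x (y j) = ∅ := by
      rw [singleton_inter_of_notMem]; exact fun h => (hy i).2 (mem_blk.1 h).1
    have h2 : ∑ w ∈ blk G x (y j), adjI G (y i) w = I i j := by
      simp only [adjI, sum_boole, ← hI i j]
      congr 2
      ext q
      simp only [mem_filter, mem_inter, mem_blk]
      tauto
    rw [bf_ind, h1, sum_singleton, h2, card_blk hG (hy j)]
    simp
  have bb : ∀ i j, bf G (ind (blk G x (y i))) (ind (blk G x (y j))) = 32 + 22 * (I i j : ℤ) := by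
    intro i j
    have h2 : ∑ z ∈ blk G x (y i), ∑ w ∈ blk G x (y j), adjI G z w = 0 :=
      sum_eq_zero fun z hz => sum_eq_zero fun w hw => by
        simp [adjI, blk_coclique hG (mem_blk.1 hz).1 (mem_blk.1 hw).1]
    rw [bf_ind, h2, hI, card_blk hG (hy i), card_blk hG (hy j)]
    push_cast; ring
  have h := bf_nonneg hG fun z => ∑ k, w k * g k z
  rw [bf_sum] at h
  simp only [Fintype.sum_sum_type, univ_unique, sum_singleton, w, g, bf_comm (ind (blk G x (y _))) (ind {x}),
    bf_comm (ind {y _}) (ind {x}), bf_comm (ind (blk G x (y _))) (ind {y _}), xx, xy, xb, yy, yb, bb] at h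
  refine h.trans_eq ?_
  simp only [certVal, sum_add_distrib, sum_sub_distrib]
  have f1 : ∑ i, ∑ j, d i * c j * (8 - 11 * (I j i : ℤ)) =
      ∑ i, ∑ j, c i * d j * (8 - 11 * (I i j : ℤ)) := by
    rw [Finset.sum_comm]
    exact sum_congr rfl fun i _ => sum_congr rfl fun j _ => by ring
  have t1 : ∑ i, 4 * (a * c i) = ∑ i, a * c i * 2 + ∑ i, c i * a * 2 := by
    rw [← sum_add_distrib]; exact sum_congr rfl fun i _ => by ring
  have t2 : ∑ i, 72 * (a * d i) = -(∑ i, a * d i * -36 + ∑ i, d i * a * -36) := by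
    rw [← sum_add_distrib, ← sum_neg_distrib]; exact sum_congr rfl fun i _ => by ring
  have t3 : ∑ i, ∑ j, 2 * (8 - 11 * (I i j : ℤ)) * (c i * d j) =
      2 * ∑ i, ∑ j, c i * d j * (8 - 11 * (I i j : ℤ)) := by
    simp only [mul_sum]; exact sum_congr rfl fun i _ => sum_congr rfl fun j _ => by ring
  have t4 : ∀ (u v : Fin n → ℤ) (F : Fin n → Fin n → ℤ),
      ∑ i, ∑ j, F i j * (u i * v j) = ∑ i, ∑ j, u i * v j * F i j := fun u v F =>
    sum_congr rfl fun i _ => sum_congr rfl fun j _ => by ring
  rw [f1, t1, t2, t3, t4 c c, t4 d d]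
  ring

/-- Two distinct blocks share at most two points. -/
theorem inter_le_two {x y z : V} (hy : Far G x y) (hz : Far G x z) (hne : y ≠ z) :
    (blk G x y ∩ blk G x z).card ≤ 2 := by
  by_contra h
  have h4 : (blk G x y ∩ blk G x z).card ≤ 4 :=
    (card_le_card inter_subset_left).trans (card_blk hG hy).le
  have hna : ¬ G.Adj y z := fun ha => by
    obtain ⟨q, hq⟩ := card_pos.1 (show 0 < (blk G x y ∩ blk G x z).card by omega)
    rw [mem_inter, mem_blk, mem_blk] at hq
    exact no_triangle hG ha hq.1.2 hq.2.2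
  set t := (blk G x y ∩ blk G x z).card with ht
  have key : ∀ (a : ℤ) (c d : Fin 2 → ℤ),
      0 ≤ certVal ![![4, t], ![t, 4]] ![![false, false], ![false, false]] a c d := fun a c d =>
    cert hG x ![y, z] (fun i => by fin_cases i <;> simpa)
      (fun i j hij => by fin_cases i <;> fin_cases j <;> simp_all [hne.symm])
      _ _ (fun i j => by
        fin_cases i <;> fin_cases j <;> simp [card_blk hG hy, card_blk hG hz, ht, inter_comm])
      (fun i j hij => by fin_cases i <;> fin_cases j <;> simp_all [G.adj_comm]) a c d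
  rcases (by omega : t = 3 ∨ t = 4) with e | e <;> rw [e] at key
  · have := key 4 ![4, 3] ![2, 1]; revert this; decide +kernel
  · have := key 1 ![1, 1] ![1, 0]; revert this; decide +kernel

/-- Nonadjacent, with disjoint blocks. -/
def Rel (G : SimpleGraph V) [DecidableRel G.Adj] (x y z : V) : Prop :=
  Far G x y ∧ Far G x z ∧ y ≠ z ∧ ¬ G.Adj y z ∧ Disjoint (blk G x y) (blk G x z)

omit hG in
theorem Rel.symm {x y z : V} (h : Rel G x y z) : Rel G x z y :=
  ⟨h.2.1, h.1, h.2.2.1.symm, fun e => h.2.2.2.1 e.symm, h.2.2.2.2.symm⟩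

theorem rel_trans {x y z z' : V} (h : Rel G x y z) (h' : Rel G x y z') (hne : z ≠ z') :
    Rel G x z z' := by
  obtain ⟨hy, hz, hyz, hayz, hdz⟩ := h
  obtain ⟨-, hz', hyz', hayz', hdz'⟩ := h'
  set t := (blk G x z ∩ blk G x z').card with ht
  have ht2 : t ≤ 2 := inter_le_two hG hz hz' hne
  have d1 : (blk G x y ∩ blk G x z).card = 0 := by simp [disjoint_iff_inter_eq_empty.1 hdz]
  have d2 : (blk G x y ∩ blk G x z').card = 0 := by simp [disjoint_iff_inter_eq_empty.1 hdz']
  have key : ∀ (a : ℤ) (c d : Fin 3 → ℤ), 0 ≤ certVal ![![4, 0, 0], ![0, 4, t], ![0, t, 4]]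
      ![![false, false, false], ![false, false, decide (G.Adj z z')],
        ![false, decide (G.Adj z z'), false]] a c d := fun a c d =>
    cert hG x ![y, z, z'] (fun i => by fin_cases i <;> simpa)
      (fun i j hij => by fin_cases i <;> fin_cases j <;> simp_all [hne.symm, hyz.symm, hyz'.symm])
      _ _ (fun i j => by
        fin_cases i <;> fin_cases j <;>
          simp [card_blk hG hy, card_blk hG hz, card_blk hG hz', ht, d1, d2,
            inter_comm (blk G x z) (blk G x y), inter_comm (blk G x z') (blk G x y),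
            inter_comm (blk G x z') (blk G x z)])
      (fun i j hij => by fin_cases i <;> fin_cases j <;> simp_all [G.adj_comm]) a c d
  by_cases ha : G.Adj z z'
  · exfalso
    have t0 : t = 0 := by
      rw [ht, card_eq_zero, eq_empty_iff_forall_notMem]
      intro q hq
      rw [mem_inter, mem_blk, mem_blk] at hq
      exact no_triangle hG ha hq.1.2 hq.2.2
    simp only [t0, ha, decide_true] at key
    have := key 3 ![3, -2, -2] ![2, 0, 0]; revert this; decide +kernel
  refine ⟨hz, hz', hne, ha, ?_⟩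
  rw [disjoint_iff_inter_eq_empty, ← card_eq_zero, ← ht]
  simp only [ha, decide_false] at key
  rcases (by omega : t = 0 ∨ t = 1 ∨ t = 2) with e | e | e
  · exact e
  · rw [e] at key
    exact absurd (key (-3) ![-7, 5, 2] ![-4, 2, 0]) (by decide +kernel)
  · rw [e] at key
    exact absurd (key (-2) ![-3, 2, 1] ![-2, 1, 0]) (by decide +kernel)

/-- No block meets three blocks, two of them in disjoint position with the first, in 2, 1, 1 points. -/
theorem no_211 {x y z z' w : V} (h : Rel G x y z) (h' : Rel G x y z') (hne : z ≠ z') (hw : Far G x w)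
    (h1 : (blk G x w ∩ blk G x y).card = 2) (h2 : (blk G x w ∩ blk G x z).card = 1)
    (h3 : (blk G x w ∩ blk G x z').card = 1) : False := by
  obtain ⟨-, -, -, hazz, hdzz⟩ := rel_trans hG h h' hne
  obtain ⟨hy, hz, hyz, hayz, hdz⟩ := h
  obtain ⟨-, hz', hyz', hayz', hdz'⟩ := h'
  have nadj : ∀ {u : V}, 0 < (blk G x w ∩ blk G x u).card → (blk G x w ∩ blk G x u).card < 4 →
      ¬ G.Adj w u ∧ w ≠ u := by
    intro u hu hu'
    obtain ⟨q, hq⟩ := card_pos.1 hu
    rw [mem_inter, mem_blk, mem_blk] at hq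
    refine ⟨fun ha => no_triangle hG ha hq.1.2 hq.2.2, fun e => ?_⟩
    rw [← e, inter_self, card_blk hG hw] at hu'
    omega
  obtain ⟨a1, n1⟩ := nadj (u := y) (by omega) (by omega)
  obtain ⟨a2, n2⟩ := nadj (u := z) (by omega) (by omega)
  obtain ⟨a3, n3⟩ := nadj (u := z') (by omega) (by omega)
  have d1 : (blk G x y ∩ blk G x z).card = 0 := by simp [disjoint_iff_inter_eq_empty.1 hdz]
  have d2 : (blk G x y ∩ blk G x z').card = 0 := by simp [disjoint_iff_inter_eq_empty.1 hdz']
  have d3 : (blk G x z ∩ blk G x z').card = 0 := by simp [disjoint_iff_inter_eq_empty.1 hdzz]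
  have := cert hG x ![w, y, z, z'] (fun i => by fin_cases i <;> simpa)
      (fun i j hij => by
        fin_cases i <;> fin_cases j <;>
          simp_all [hne.symm, hyz.symm, hyz'.symm, n1.symm, n2.symm, n3.symm])
      ![![4, 2, 1, 1], ![2, 4, 0, 0], ![1, 0, 4, 0], ![1, 0, 0, 4]] (fun _ _ => false)
      (fun i j => by
        fin_cases i <;> fin_cases j <;>
          simp [card_blk hG hy, card_blk hG hz, card_blk hG hz', card_blk hG hw, d1, d2, d3, h1, h2, h3,
            inter_comm (blk G x z) (blk G x y), inter_comm (blk G x z') (blk G x y),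
            inter_comm (blk G x z') (blk G x z), inter_comm (blk G x y) (blk G x w),
            inter_comm (blk G x z) (blk G x w), inter_comm (blk G x z') (blk G x w)])
      (fun i j hij => by fin_cases i <;> fin_cases j <;> simp_all [G.adj_comm])
      4 ![2, 3, -1, -1] ![1, 2, 0, 0]
  revert this; decide +kernel

end Cfsg.Agent.Srg77
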