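import Mathlib

/-!
The positive semidefinite form `22 I + 2 J - 11 A` of a graph with parameters (77, 16, 0, 4), and the
resulting restrictions on the blocks that the far vertices cut out among the sixteen neighbours.
-/

set_option autoImplicit false

namespace Cfsg.Agent.Srg77

open Finset

variable {V : Type*} [Fintype V] [DecidableEq V] {G : SimpleGraph V} [DecidableRel G.Adj]

/-- The adjacency indicator. -/
def adjI (G : SimpleGraph V) [DecidableRel G.Adj] (x y : V) : ℤ := if G.Adj x y then 1 else 0

/-- The bilinear form of `22 I + 2 J - 11 A`. -/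
def bf (G : SimpleGraph V) [DecidableRel G.Adj] (f g : V → ℤ) : ℤ :=
  22 * (∑ x, f x * g x) + 2 * (∑ x, f x) * (∑ x, g x) - 11 * ∑ x, ∑ y, adjI G x y * f x * g y

theorem bf_comm (f g : V → ℤ) : bf G f g = bf G g f := by
  have h : ∀ x y, adjI G x y = adjI G y x := fun x y => by simp [adjI, G.adj_comm]
  simp only [bf]
  rw [Finset.sum_comm (f := fun x y => adjI G x y * f x * g y)]
  simp only [fun x y => h y x, mul_comm (f _) (g _)]
  congr 1
  · ring
  · congr 1
    exact sum_congr rfl fun x _ => sum_congr rfl fun y _ => by ring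

theorem bf_sum {κ : Type*} [Fintype κ] (w : κ → ℤ) (g : κ → V → ℤ) :
    bf G (fun x => ∑ k, w k * g k x) (fun x => ∑ k, w k * g k x) =
      ∑ k, ∑ l, w k * w l * bf G (g k) (g l) := by
  have h1 : ∀ (h : V → ℤ), bf G (fun x => ∑ k, w k * g k x) h = ∑ k, w k * bf G (g k) h := by
    intro h
    have e1 : ∑ x, (∑ k, w k * g k x) * h x = ∑ k, w k * ∑ x, g k x * h x := by
      simp only [Finset.sum_mul, Finset.mul_sum]
      rw [Finset.sum_comm]
      exact sum_congr rfl fun k _ => sum_congr rfl fun x _ => mul_assoc _ _ _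
    have e2 : ∑ x, ∑ k, w k * g k x = ∑ k, w k * ∑ x, g k x := by
      simp only [Finset.mul_sum]
      exact Finset.sum_comm
    have e3 : ∑ x, ∑ y, adjI G x y * (∑ k, w k * g k x) * h y =
        ∑ k, w k * ∑ x, ∑ y, adjI G x y * g k x * h y := by
      simp only [Finset.sum_mul, Finset.mul_sum]
      calc ∑ x, ∑ y, ∑ k, adjI G x y * (w k * g k x) * h y
          = ∑ x, ∑ k, ∑ y, adjI G x y * (w k * g k x) * h y :=
            sum_congr rfl fun x _ => Finset.sum_comm
        _ = ∑ k, ∑ x, ∑ y, adjI G x y * (w k * g k x) * h y := Finset.sum_comm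
        _ = _ := sum_congr rfl fun k _ => sum_congr rfl fun x _ => sum_congr rfl fun y _ => by ring
    have L1 : ∀ (c : ℤ) (F : κ → ℤ), c * ∑ k, w k * F k = ∑ k, w k * (c * F k) := fun c F => by
      rw [Finset.mul_sum]; exact sum_congr rfl fun k _ => by ring
    have L2 : ∀ (c : ℤ) (F : κ → ℤ), (∑ k, w k * F k) * c = ∑ k, w k * (F k * c) := fun c F => by
      rw [Finset.sum_mul]; exact sum_congr rfl fun k _ => by ring
    simp only [bf]
    rw [e1, e2, e3, L1, L1, L2, L1, ← sum_add_distrib, ← sum_sub_distrib]
    exact sum_congr rfl fun k _ => by ring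
  rw [h1]
  refine sum_congr rfl fun k _ => ?_
  rw [bf_comm, h1, mul_sum]
  exact sum_congr rfl fun l _ => by rw [bf_comm (g l)]; ring

variable (hG : G.IsSRGWith 77 16 0 4)
include hG

theorem card_adj (x : V) : (univ.filter fun z => G.Adj x z).card = 16 := by
  rw [← hG.regular x, ← SimpleGraph.card_neighborFinset_eq_degree]
  congr 1
  ext u; simp

theorem card_common (x y : V) (hne : x ≠ y) :
    (univ.filter fun z => G.Adj x z ∧ G.Adj y z).card = if G.Adj x y then 0 else 4 := by
  have key : (univ.filter fun z => G.Adj x z ∧ G.Adj y z).card =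
      Fintype.card (G.commonNeighbors x y) := by
    rw [Fintype.card_subtype]
    congr 1
  rw [key]
  by_cases h : G.Adj x y
  · rw [if_pos h, hG.of_adj x y h]
  · rw [if_neg h, hG.of_not_adj hne h]

theorem no_triangle {x y z : V} (h1 : G.Adj x y) (h2 : G.Adj x z) (h3 : G.Adj y z) : False := by
  have h := card_common hG x y h1.ne
  rw [if_pos h1, card_eq_zero, filter_eq_empty_iff] at h
  exact h (mem_univ z) ⟨h2, h3⟩

theorem bf_nonneg (v : V → ℤ) : 0 ≤ bf G v v := by
  set S := ∑ x, v x with hS
  set Av : V → ℤ := fun z => ∑ x, adjI G z x * v x with hAv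
  have hcol : ∀ x, ∑ z, adjI G z x = 16 := fun x => by
    simp only [adjI, sum_boole]
    norm_cast
    rw [← card_adj hG x]
    congr 1
    ext z; simp [G.adj_comm]
  have hc : ∀ x y, ∑ z, adjI G z x * adjI G z y =
      12 * (if x = y then 1 else 0) + 4 - 4 * adjI G x y := by
    intro x y
    have h : ∀ z, adjI G z x * adjI G z y = if G.Adj x z ∧ G.Adj y z then 1 else 0 := fun z => by
      simp only [adjI, G.adj_comm z]
      split_ifs <;> first | rfl | tauto
    simp only [h, sum_boole]
    by_cases hxy : x = y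
    · subst hxy
      simp only [and_self, if_pos, adjI, G.irrefl, if_false]
      rw [card_adj hG x]
      norm_num
    · rw [card_common hG x y hxy]
      simp only [adjI, if_neg hxy]
      split_ifs <;> norm_num
  have hsA : ∑ z, Av z = 16 * S := by
    simp only [hAv]
    rw [Finset.sum_comm, hS, mul_sum]
    exact sum_congr rfl fun x _ => by rw [← sum_mul, hcol]
  have hT : ∑ z, v z * Av z = ∑ x, ∑ y, adjI G x y * v x * v y := by
    simp only [hAv, mul_sum]
    exact sum_congr rfl fun x _ => sum_congr rfl fun y _ => by ring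
  set T := ∑ x, ∑ y, adjI G x y * v x * v y with hTdef
  have hAA : ∑ z, Av z * Av z = 12 * (∑ x, v x * v x) + 4 * (S * S) - 4 * T := by
    calc ∑ z, Av z * Av z = ∑ x, ∑ y, (∑ z, adjI G z x * adjI G z y) * (v x * v y) := by
          simp only [hAv, sum_mul_sum]
          rw [Finset.sum_comm]
          refine sum_congr rfl fun x _ => ?_
          rw [Finset.sum_comm]
          refine sum_congr rfl fun y _ => ?_
          rw [sum_mul]
          exact sum_congr rfl fun z _ => by ring
      _ = ∑ x, ∑ y, ((if x = y then 12 * (v x * v y) else 0) + 4 * (v x * v y) -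
            4 * (adjI G x y * v x * v y)) := by
          refine sum_congr rfl fun x _ => sum_congr rfl fun y _ => ?_
          rw [hc]
          split_ifs <;> ring
      _ = _ := by
          simp only [sum_sub_distrib, sum_add_distrib, sum_ite_eq, mem_univ, if_true, ← mul_sum]
          simp only [← sum_mul_sum, hS, hTdef, Finset.mul_sum, Finset.sum_mul]
  have hn : (univ : Finset V).card = 77 := by rw [card_univ, hG.card]
  have key : 88 * bf G v v = ∑ z, (22 * v z + 2 * S - 11 * Av z) * (22 * v z + 2 * S - 11 * Av z) := by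
    have e : ∀ z, (22 * v z + 2 * S - 11 * Av z) * (22 * v z + 2 * S - 11 * Av z) =
        484 * (v z * v z) + 4 * (S * S) + 121 * (Av z * Av z) + 88 * S * v z -
          484 * (v z * Av z) - 44 * S * Av z := fun z => by ring
    rw [sum_congr rfl fun z _ => e z]
    simp only [sum_sub_distrib, sum_add_distrib, ← mul_sum, sum_const, hn, hAA, hT, hsA, ← hS, bf,
      nsmul_eq_mul]
    push_cast
    ring
  have h0 : 0 ≤ ∑ z, (22 * v z + 2 * S - 11 * Av z) * (22 * v z + 2 * S - 11 * Av z) :=
    sum_nonneg fun z _ => mul_self_nonneg _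
  linarith

end Cfsg.Agent.Srg77
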