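import Cfsg.Agent.Lib.Srg77.Cert

/-!
The fifteen classes of four pairwise disjoint blocks, and the absence of triangles.
-/

set_option autoImplicit false

namespace Cfsg.Agent.Srg77

open Finset

variable {V : Type*} [Fintype V] [DecidableEq V] {G : SimpleGraph V} [DecidableRel G.Adj]

/-- The number of common points of two blocks. -/
def meet (G : SimpleGraph V) [DecidableRel G.Adj] (x y z : V) : ℕ := (blk G x y ∩ blk G x z).card

theorem meet_comm (x y z : V) : meet G x y z = meet G x z y := by rw [meet, meet, inter_comm]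

theorem meet_pos {x y z p : V} (h : p ∈ blk G x y) (h' : p ∈ blk G x z) : 0 < meet G x y z :=
  card_pos.2 ⟨p, mem_inter.2 ⟨h, h'⟩⟩

theorem disjoint_of_meet {x y z : V} (h : meet G x y z = 0) : Disjoint (blk G x y) (blk G x z) :=
  disjoint_iff_inter_eq_empty.2 (card_eq_zero.1 h)

instance (x y z : V) : Decidable (Rel G x y z) := by unfold Rel; infer_instance

/-- The class of `y`. -/
def cls (G : SimpleGraph V) [DecidableRel G.Adj] (x y : V) : Finset V :=
  insert y (univ.filter fun z => Rel G x y z)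

theorem mem_cls {x y z : V} : z ∈ cls G x y ↔ z = y ∨ Rel G x y z := by simp [cls]

theorem self_mem_cls (x y : V) : y ∈ cls G x y := mem_insert_self _ _

variable (hG : G.IsSRGWith 77 16 0 4)
include hG

theorem not_adj_of_meet {x y z : V} (h : 0 < meet G x y z) : ¬ G.Adj y z := fun ha => by
  obtain ⟨q, hq⟩ := card_pos.1 h
  rw [mem_inter, mem_blk, mem_blk] at hq
  exact no_triangle hG ha hq.1.2 hq.2.2

theorem card_far_through {x p : V} (hp : G.Adj x p) :
    (univ.filter fun y => Far G x y ∧ p ∈ blk G x y).card = 15 := by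
  have h : (univ.filter fun y => Far G x y ∧ p ∈ blk G x y) =
      (univ.filter fun y => G.Adj p y).erase x := by
    ext y
    simp only [mem_filter, mem_univ, true_and, mem_erase, Far, mem_blk]
    exact ⟨fun ⟨⟨h1, _⟩, _, h3⟩ => ⟨h1, h3.symm⟩,
      fun ⟨h1, h2⟩ => ⟨⟨h1, fun ha => no_triangle hG hp ha h2⟩, hp, h2.symm⟩⟩
  rw [h, card_erase_of_mem (by simp [hp.symm]), card_adj hG p]

theorem card_far_pair {x p q : V} (hp : G.Adj x p) (hq : G.Adj x q) (hne : p ≠ q) :
    (univ.filter fun y => Far G x y ∧ p ∈ blk G x y ∧ q ∈ blk G x y).card = 3 := by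
  have h : (univ.filter fun y => Far G x y ∧ p ∈ blk G x y ∧ q ∈ blk G x y) =
      (univ.filter fun y => G.Adj p y ∧ G.Adj q y).erase x := by
    ext y
    simp only [mem_filter, mem_univ, true_and, mem_erase, Far, mem_blk]
    exact ⟨fun ⟨⟨h1, _⟩, ⟨_, h3⟩, _, h4⟩ => ⟨h1, h3.symm, h4.symm⟩,
      fun ⟨h1, h2, h3⟩ => ⟨⟨h1, fun ha => no_triangle hG hp ha h2⟩, ⟨hp, h2.symm⟩, hq, h3.symm⟩⟩
  rw [h, card_erase_of_mem (by simp [hp.symm, hq.symm]), card_common hG p q hne,
    if_neg (blk_coclique hG hp hq)]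

theorem card_rel {x y : V} (hy : Far G x y) : (univ.filter fun z => Rel G x y z).card = 3 := by
  set B := blk G x y with hB
  set F := (univ.filter fun z => Far G x z).erase y with hF
  have hBc : B.card = 4 := card_blk hG hy
  have hFc : F.card = 59 := by
    have h : (univ.filter fun z => Far G x z) =
        (univ : Finset V) \ insert x (univ.filter fun z => G.Adj x z) := by
      ext z
      simp only [mem_filter, mem_univ, true_and, mem_sdiff, mem_insert, not_or]
      exact Iff.rfl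
    rw [hF, card_erase_of_mem (by simp [hy]), h, card_sdiff_of_subset (subset_univ _),
      card_insert_of_notMem (by simp), card_adj hG x, card_univ, hG.card]
  have hl : ∀ p ∈ B, (F.filter fun z => p ∈ blk G x z).card = 14 := fun p hp => by
    rw [hF, filter_erase, filter_filter, card_erase_of_mem (mem_filter.2 ⟨mem_univ _, hy, hp⟩),
      card_far_through hG (mem_blk.1 hp).1]
  have hs1 : ∑ z ∈ F, meet G x y z = 56 := by
    have h := sum_card_bipartiteAbove_eq_sum_card_bipartiteBelow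
      (fun (p : V) (z : V) => p ∈ blk G x z) (s := B) (t := F)
    have hl' : ∀ p ∈ B, (F.bipartiteAbove (fun p z => p ∈ blk G x z) p).card = 14 := hl
    rw [sum_const_nat hl', hBc] at h
    rw [show (56 : ℕ) = 4 * 14 from rfl, h]
    exact sum_congr rfl fun z _ => by rw [bipartiteBelow, filter_mem_eq_inter]; rfl
  have hs2 : ∑ z ∈ F, meet G x y z * meet G x y z = 80 := by
    have h := sum_card_bipartiteAbove_eq_sum_card_bipartiteBelow
      (fun (t : V × V) (z : V) => t.1 ∈ blk G x z ∧ t.2 ∈ blk G x z) (s := B ×ˢ B) (t := F)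
    have hl2 : ∀ t ∈ B ×ˢ B, (F.bipartiteAbove (fun (t : V × V) (z : V) =>
        t.1 ∈ blk G x z ∧ t.2 ∈ blk G x z) t).card = if t.1 = t.2 then 14 else 2 := by
      intro t ht
      rw [mem_product] at ht
      by_cases he : t.1 = t.2
      · rw [if_pos he, ← hl t.1 ht.1]
        congr 1
        ext z
        simp [bipartiteAbove, ← he]
      · rw [if_neg he, bipartiteAbove, hF, filter_erase, filter_filter,
          card_erase_of_mem (mem_filter.2 ⟨mem_univ _, hy, ht.1, ht.2⟩),
          card_far_pair hG (mem_blk.1 ht.1).1 (mem_blk.1 ht.2).1 he]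
    rw [sum_congr rfl hl2, sum_ite, sum_const, sum_const,
      show ((B ×ˢ B).filter fun t => t.1 = t.2) = B.diag by
        ext ⟨a, b⟩; simp [mem_diag]; exact fun e h => e ▸ h,
      show ((B ×ˢ B).filter fun t => ¬ t.1 = t.2) = B.offDiag by
        ext ⟨a, b⟩; simp [mem_offDiag, and_assoc],
      diag_card, offDiag_card, hBc] at h
    rw [show (80 : ℕ) = 4 • 14 + (4 * 4 - 4) • 2 by rfl, h]
    refine sum_congr rfl fun z _ => ?_
    rw [meet, ← card_product]
    congr 1
    ext ⟨a, b⟩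
    simp only [bipartiteBelow, mem_product, mem_filter, mem_inter, ← hB]
    tauto
  have hpt : ∀ z ∈ F, 2 + meet G x y z * meet G x y z =
      3 * meet G x y z + 2 * (if meet G x y z = 0 then 1 else 0) := by
    intro z hz
    rw [hF, mem_erase, mem_filter] at hz
    have := inter_le_two hG hy hz.2.2 hz.1.symm
    rcases (by rw [meet]; omega : meet G x y z = 0 ∨ meet G x y z = 1 ∨ meet G x y z = 2) with e | e | e <;>
      rw [e] <;> norm_num
  have hsum := sum_congr rfl hpt
  rw [sum_add_distrib, sum_add_distrib, sum_const, hs2, ← mul_sum, ← mul_sum, hs1, sum_boole,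
    smul_eq_mul, hFc, Nat.cast_id] at hsum
  set Z := F.filter fun z => meet G x y z = 0 with hZ
  have hA : (univ.filter fun z => G.Adj y z) \ B ⊆ Z := by
    intro z hz
    simp only [mem_sdiff, mem_filter, mem_univ, true_and, hB, mem_blk, not_and] at hz
    simp only [hZ, hF, mem_filter, mem_erase, mem_univ, true_and]
    refine ⟨⟨hz.1.ne.symm, fun e => hy.2 ((e ▸ hz.1).symm), fun ha => hz.2 ha hz.1⟩, ?_⟩
    by_contra h0
    exact not_adj_of_meet hG (Nat.pos_of_ne_zero h0) hz.1
  have h : (univ.filter fun z => Rel G x y z) = Z \ ((univ.filter fun z => G.Adj y z) \ B) := by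
    ext z
    simp only [mem_filter, mem_univ, true_and, mem_sdiff, hZ, hF, mem_erase, hB, mem_blk, not_and]
    constructor
    · rintro ⟨-, hz, hne, hna, hd⟩
      exact ⟨⟨⟨hne.symm, hz⟩, card_eq_zero.2 (disjoint_iff_inter_eq_empty.1 hd)⟩, fun hh => absurd hh hna⟩
    · rintro ⟨⟨⟨hne, hz⟩, h0⟩, himp⟩
      refine ⟨hy, hz, hne.symm, fun ha => ?_, disjoint_of_meet h0⟩
      exact hz.2 (by_contra fun hn => himp ha fun h => absurd h hn)
  have hBsub : B ⊆ univ.filter fun z => G.Adj y z := fun z hz =>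
    mem_filter.2 ⟨mem_univ _, (mem_blk.1 (hB ▸ hz : z ∈ blk G x y)).2.symm.symm⟩
  rw [h, card_sdiff_of_subset hA, card_sdiff_of_subset hBsub, card_adj hG y, hBc]
  omega

theorem card_cls {x y : V} (hy : Far G x y) : (cls G x y).card = 4 := by
  rw [cls, card_insert_of_notMem (fun h => (mem_filter.1 h).2.2.2.1 rfl), card_rel hG hy]

omit hG in
theorem far_of_mem_cls {x y z : V} (hy : Far G x y) (h : z ∈ cls G x y) : Far G x z := by
  rcases mem_cls.1 h with rfl | h
  exacts [hy, h.2.1]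

theorem cls_eq {x y z : V} (h : z ∈ cls G x y) : cls G x z = cls G x y := by
  rcases mem_cls.1 h with rfl | h
  · rfl
  ext u
  simp only [mem_cls]
  constructor
  · rintro (rfl | hu)
    · exact Or.inr h
    by_cases e : u = y
    · exact Or.inl e
    · exact Or.inr (rel_trans hG h.symm hu (Ne.symm e))
  · rintro (rfl | hu)
    · exact Or.inr h.symm
    by_cases e : u = z
    · exact Or.inl e
    · exact Or.inr (rel_trans hG h hu (Ne.symm e))

theorem disjoint_in_cls {x y z z' : V} (h : z ∈ cls G x y) (h' : z' ∈ cls G x y) (hne : z ≠ z') :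
    Disjoint (blk G x z) (blk G x z') := by
  rw [← cls_eq hG h] at h'
  exact ((mem_cls.1 h').resolve_left hne.symm).2.2.2.2

theorem cls_partition {x y : V} (hy : Far G x y) :
    (cls G x y).biUnion (blk G x) = univ.filter fun p => G.Adj x p := by
  refine eq_of_subset_of_card_le (fun p hp => ?_) ?_
  · obtain ⟨z, -, hz⟩ := mem_biUnion.1 hp
    exact mem_filter.2 ⟨mem_univ _, (mem_blk.1 hz).1⟩
  · rw [card_biUnion (fun z hz z' hz' hne => disjoint_in_cls hG hz hz' hne),
      sum_const_nat (fun z hz => card_blk hG (far_of_mem_cls hy hz)), card_cls hG hy, card_adj hG x]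

theorem exists_in_cls {x y p : V} (hy : Far G x y) (hp : G.Adj x p) :
    ∃ z ∈ cls G x y, p ∈ blk G x z := by
  rw [← mem_biUnion, cls_partition hG hy]
  simpa using hp

theorem sum_meet {x y w : V} (hy : Far G x y) (hw : Far G x w) :
    ∑ z ∈ cls G x y, meet G x w z = 4 := by
  have h := congrArg (fun S => (blk G x w ∩ S).card) (cls_partition hG hy)
  simp only [inter_biUnion] at h
  rw [card_biUnion (fun z hz z' hz' hne => disjoint_of_subset_left inter_subset_right
      (disjoint_of_subset_right inter_subset_right (disjoint_in_cls hG hz hz' hne))),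
    inter_eq_left.2 (fun p hp => mem_filter.2 ⟨mem_univ _, (mem_blk.1 hp).1⟩), card_blk hG hw] at h
  exact h

theorem notMem_cls_of_meet {x y w : V} (hne : w ≠ y) (h : 0 < meet G x w y) : w ∉ cls G x y := by
  intro hm
  rcases mem_cls.1 hm with e | hr
  · exact hne e
  · rw [meet, inter_comm, disjoint_iff_inter_eq_empty.1 hr.2.2.2.2, card_empty] at h
    omega

theorem meet_one {x y w : V} (hy : Far G x y) (hw : Far G x w) (hout : w ∉ cls G x y)
    (h1 : meet G x w y = 1) {z : V} (hz : z ∈ cls G x y) : meet G x w z = 1 := by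
  have hle : ∀ u ∈ cls G x y, meet G x w u ≤ 2 := fun u hu =>
    inter_le_two hG hw (far_of_mem_cls hy hu) fun e => hout (e ▸ hu)
  have hno : ∀ u ∈ cls G x y, meet G x w u ≠ 2 := by
    intro u hu h2
    have huy : y ≠ u := fun e => by rw [← e, h1] at h2; omega
    set S := ((cls G x y).erase y).erase u with hS
    have hu' : u ∈ (cls G x y).erase y := mem_erase.2 ⟨huy.symm, hu⟩
    have hsum := sum_meet hG hy hw
    rw [← add_sum_erase _ _ (self_mem_cls x y), ← add_sum_erase _ _ hu', h1, h2, ← hS] at hsum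
    obtain ⟨z', hz'S, hz'0⟩ := exists_ne_zero_of_sum_ne_zero (show ∑ v ∈ S, meet G x w v ≠ 0 by omega)
    have h1' : meet G x w z' = 1 := by
      have := single_le_sum (f := meet G x w) (fun _ _ => Nat.zero_le _) hz'S
      omega
    simp only [hS, mem_erase] at hz'S
    have r1 : Rel G x u y :=
      (mem_cls.1 ((cls_eq hG hu).symm ▸ self_mem_cls x y : y ∈ cls G x u)).resolve_left huy
    have r2 : Rel G x u z' :=
      (mem_cls.1 ((cls_eq hG hu).symm ▸ hz'S.2.2 : z' ∈ cls G x u)).resolve_left hz'S.1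
    exact no_211 hG r1 r2 (Ne.symm hz'S.2.1) hw h2 h1 h1'
  by_contra hz1
  have hle1 : ∀ u ∈ cls G x y, meet G x w u ≤ 1 := fun u hu => by
    have := hle u hu; have := hno u hu; omega
  have hz0 : meet G x w z = 0 := by have := hle1 z hz; omega
  have hsum := sum_meet hG hy hw
  rw [← add_sum_erase _ _ hz, hz0, zero_add] at hsum
  have := sum_le_card_nsmul ((cls G x y).erase z) (meet G x w) 1 fun u hu => hle1 u (mem_erase.1 hu).2
  rw [hsum, smul_eq_mul, card_erase_of_mem hz, card_cls hG hy] at this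
  omega

theorem meet_even {x y w : V} (hy : Far G x y) (hw : Far G x w) (hout : w ∉ cls G x y)
    (h2 : meet G x w y = 2) {z : V} (hz : z ∈ cls G x y) : meet G x w z = 0 ∨ meet G x w z = 2 := by
  have hle : meet G x w z ≤ 2 := inter_le_two hG hw (far_of_mem_cls hy hz) fun e => hout (e ▸ hz)
  by_contra h
  have h1 : meet G x w z = 1 := by omega
  have := meet_one hG (far_of_mem_cls hy hz) hw (by rwa [cls_eq hG hz]) h1
    ((cls_eq hG hz).symm ▸ self_mem_cls x y)
  omega

theorem meet_two {x y w z p : V} (hy : Far G x y) (hw : Far G x w) (hout : w ∉ cls G x y)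
    (h2 : meet G x w y = 2) (hz : z ∈ cls G x y) (hp : p ∈ blk G x w) (hp' : p ∈ blk G x z) :
    meet G x w z = 2 := by
  have := meet_pos hp hp'
  rcases meet_even hG hy hw hout h2 hz with h | h <;> omega

theorem adj_of_disjoint {x y u : V} (hy : Far G x y) (hu : Far G x u) (hout : u ∉ cls G x y)
    (hd : Disjoint (blk G x y) (blk G x u)) : G.Adj y u := by
  by_contra h
  exact hout (mem_cls.2 (Or.inr ⟨hy, hu, fun e => hout (e ▸ self_mem_cls x y), h, hd⟩))

/-- Three blocks pairwise meeting in two points have two points in common. -/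
theorem triangle {x y1 y2 y3 p q1 q2 q3 : V} (h1 : Far G x y1) (h2 : Far G x y2) (h3 : Far G x y3)
    (n12 : y1 ≠ y2) (n13 : y1 ≠ y3) (n23 : y2 ≠ y3)
    (p1 : p ∈ blk G x y1) (p2 : p ∈ blk G x y2) (p3 : p ∈ blk G x y3)
    (n1 : q1 ≠ p) (n2 : q2 ≠ p) (n3 : q3 ≠ p)
    (a2 : q1 ∈ blk G x y2) (a3 : q1 ∈ blk G x y3) (b1 : q2 ∈ blk G x y1) (b3 : q2 ∈ blk G x y3)
    (c1 : q3 ∈ blk G x y1) (c2 : q3 ∈ blk G x y2) : q3 ∈ blk G x y3 := by
  by_contra hq3
  have two : ∀ {y z a b : V}, Far G x y → Far G x z → y ≠ z → a ≠ b → a ∈ blk G x y → a ∈ blk G x z →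
      b ∈ blk G x y → b ∈ blk G x z →
      meet G x y z = 2 ∧ blk G x y ∩ blk G x z = {a, b} := by
    intro y z a b hy hz hne hab ha ha' hb hb'
    have hsub : ({a, b} : Finset V) ⊆ blk G x y ∩ blk G x z := by
      simp [insert_subset_iff, ha, ha', hb, hb']
    have := eq_of_subset_of_card_le hsub (by rw [card_pair hab]; exact inter_le_two hG hy hz hne)
    exact ⟨by rw [meet, ← this, card_pair hab], this.symm⟩
  obtain ⟨m12, e12⟩ := two h1 h2 n12 (Ne.symm n3) p1 p2 c1 c2
  obtain ⟨m13, e13⟩ := two h1 h3 n13 (Ne.symm n2) p1 p3 b1 b3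
  obtain ⟨m23, e23⟩ := two h2 h3 n23 (Ne.symm n1) p2 p3 a2 a3
  have q23 : q2 ≠ q3 := fun e => hq3 (e ▸ b3)
  have q13 : q1 ≠ q3 := fun e => hq3 (e ▸ a3)
  have hq1 : q1 ∉ blk G x y1 := fun h => by
    have : q1 ∈ ({p, q3} : Finset V) := e12 ▸ mem_inter.2 ⟨h, a2⟩
    simp [n1, q13] at this
  have hq2 : q2 ∉ blk G x y2 := fun h => by
    have : q2 ∈ ({p, q3} : Finset V) := e12 ▸ mem_inter.2 ⟨b1, h⟩
    simp [n2, q23] at this
  have fourth : ∀ {y : V}, Far G x y → ∀ {a b c : V}, a ≠ b → a ≠ c → b ≠ c → a ∈ blk G x y →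
      b ∈ blk G x y → c ∈ blk G x y → ∃ d, d ∉ ({a, b, c} : Finset V) ∧
        blk G x y = insert d {a, b, c} := by
    intro y hy a b c hab hac hbc ha hb hc
    have hs : ({a, b, c} : Finset V) ⊆ blk G x y := by simp [insert_subset_iff, ha, hb, hc]
    have h3c : ({a, b, c} : Finset V).card = 3 := by
      rw [card_insert_of_notMem (by simp [hab, hac]), card_pair hbc]
    obtain ⟨d, hd⟩ := card_eq_one.1 (show (blk G x y \ {a, b, c}).card = 1 by
      rw [card_sdiff_of_subset hs, card_blk hG hy, h3c])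
    have hdm : d ∈ blk G x y \ {a, b, c} := hd ▸ mem_singleton_self d
    refine ⟨d, (mem_sdiff.1 hdm).2, ?_⟩
    rw [insert_eq, ← hd, sdiff_union_of_subset hs]
  have q12 : q1 ≠ q2 := fun e => hq1 (e ▸ b1)
  obtain ⟨a, ha, hB1⟩ := fourth h1 (Ne.symm n2) (Ne.symm n3) q23 p1 b1 c1
  obtain ⟨b, hb, hB2⟩ := fourth h2 (Ne.symm n1) (Ne.symm n3) q13 p2 a2 c2
  obtain ⟨c, hc, hB3⟩ := fourth h3 (Ne.symm n1) (Ne.symm n2) q12 p3 a3 b3
  simp only [mem_insert, mem_singleton, not_or] at ha hb hc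
  have am : a ∈ blk G x y1 := hB1 ▸ mem_insert_self _ _
  have bm : b ∈ blk G x y2 := hB2 ▸ mem_insert_self _ _
  have cm : c ∈ blk G x y3 := hB3 ▸ mem_insert_self _ _
  have a_2 : a ∉ blk G x y2 := fun h => by
    have : a ∈ ({p, q3} : Finset V) := e12 ▸ mem_inter.2 ⟨am, h⟩
    simp [ha.1, ha.2.2] at this
  have a_3 : a ∉ blk G x y3 := fun h => by
    have : a ∈ ({p, q2} : Finset V) := e13 ▸ mem_inter.2 ⟨am, h⟩
    simp [ha.1, ha.2.1] at this
  have b_1 : b ∉ blk G x y1 := fun h => by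
    have : b ∈ ({p, q3} : Finset V) := e12 ▸ mem_inter.2 ⟨h, bm⟩
    simp [hb.1, hb.2.2] at this
  have b_3 : b ∉ blk G x y3 := fun h => by
    have : b ∈ ({p, q1} : Finset V) := e23 ▸ mem_inter.2 ⟨bm, h⟩
    simp [hb.1, hb.2.1] at this
  have c_1 : c ∉ blk G x y1 := fun h => by
    have : c ∈ ({p, q2} : Finset V) := e13 ▸ mem_inter.2 ⟨h, cm⟩
    simp [hc.1, hc.2.2] at this
  have c_2 : c ∉ blk G x y2 := fun h => by
    have : c ∈ ({p, q1} : Finset V) := e23 ▸ mem_inter.2 ⟨h, cm⟩
    simp [hc.1, hc.2.1] at this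
  -- the three opposite blocks
  have mate : ∀ {y y' q d s : V}, Far G x y → Far G x y' → y' ≠ y → meet G x y' y = 2 →
      q ∈ blk G x y' → q ∉ blk G x y → d ≠ q →
      (∀ u ∈ blk G x y', u ∉ blk G x y → u = q ∨ u = d) →
      s ∈ cls G x y → q ∈ blk G x s →
      d ∈ blk G x s ∧ blk G x y' ∩ blk G x s = {q, d} ∧ meet G x y' s = 2 := by
    intro y y' q d s hy hy' hne hm hq hqn hdq hrest hs hqs
    have hout : y' ∉ cls G x y := notMem_cls_of_meet hG hne (by omega)
    have hsy : s ≠ y := fun e => hqn (e ▸ hqs)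
    have hdis : Disjoint (blk G x s) (blk G x y) := disjoint_in_cls hG hs (self_mem_cls x y) hsy
    have hm2 := meet_two hG hy hy' hout hm hs hq hqs
    have hsub : blk G x y' ∩ blk G x s ⊆ {q, d} := fun u hu => by
      rw [mem_inter] at hu
      rcases hrest u hu.1 (disjoint_left.1 hdis hu.2) with rfl | rfl <;> simp
    have he := eq_of_subset_of_card_le hsub (by
      rw [card_pair (Ne.symm hdq)]; exact (show meet G x y' s = 2 from hm2).ge)
    exact ⟨(mem_inter.1 (he.symm ▸ (by simp : d ∈ ({q, d} : Finset V)))).2, he, hm2⟩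
  have rest : ∀ {y : V} {d a b c : V}, blk G x y = insert d {a, b, c} → ∀ u ∈ blk G x y,
      u = d ∨ u = a ∨ u = b ∨ u = c := fun h u hu => by rw [h] at hu; simpa using hu
  obtain ⟨s1, hs1, qs1⟩ := exists_in_cls hG h1 (mem_blk.1 a2).1
  obtain ⟨s2, hs2, qs2⟩ := exists_in_cls hG h2 (mem_blk.1 b1).1
  obtain ⟨s3, hs3, qs3⟩ := exists_in_cls hG h3 (mem_blk.1 c1).1
  obtain ⟨bs1, i21, -⟩ := mate h1 h2 n12.symm (by rw [meet_comm]; exact m12) a2 hq1 hb.2.1
    (fun u hu hn => by
      rcases rest hB2 u hu with e | e | e | e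
      exacts [Or.inr e, absurd (e ▸ p1) hn, Or.inl e, absurd (e ▸ c1) hn]) hs1 qs1
  obtain ⟨cs1, -, -⟩ := mate h1 h3 n13.symm (by rw [meet_comm]; exact m13) a3 hq1 hc.2.1
    (fun u hu hn => by
      rcases rest hB3 u hu with e | e | e | e
      exacts [Or.inr e, absurd (e ▸ p1) hn, Or.inl e, absurd (e ▸ b1) hn]) hs1 qs1
  obtain ⟨as2, -, -⟩ := mate h2 h1 n12 m12 b1 hq2 ha.2.1
    (fun u hu hn => by
      rcases rest hB1 u hu with e | e | e | e
      exacts [Or.inr e, absurd (e ▸ p2) hn, Or.inl e, absurd (e ▸ c2) hn]) hs2 qs2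
  obtain ⟨cs2, -, -⟩ := mate h2 h3 n23.symm (by rw [meet_comm]; exact m23) b3 hq2 hc.2.2
    (fun u hu hn => by
      rcases rest hB3 u hu with e | e | e | e
      exacts [Or.inr e, absurd (e ▸ p2) hn, absurd (e ▸ a2) hn, Or.inl e]) hs2 qs2
  obtain ⟨as3, -, -⟩ := mate h3 h1 n13 m13 c1 hq3 ha.2.2
    (fun u hu hn => by
      rcases rest hB1 u hu with e | e | e | e
      exacts [Or.inr e, absurd (e ▸ p3) hn, absurd (e ▸ b3) hn, Or.inl e]) hs3 qs3
  obtain ⟨bs3, -, -⟩ := mate h3 h2 n23 m23 c2 hq3 hb.2.2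
    (fun u hu hn => by
      rcases rest hB2 u hu with e | e | e | e
      exacts [Or.inr e, absurd (e ▸ p3) hn, absurd (e ▸ a3) hn, Or.inl e]) hs3 qs3
  have f1 := far_of_mem_cls h1 hs1
  have f2 := far_of_mem_cls h2 hs2
  have f3 := far_of_mem_cls h3 hs3
  have d1 : Disjoint (blk G x s1) (blk G x y1) :=
    disjoint_in_cls hG hs1 (self_mem_cls x y1) fun e => hq1 (e ▸ qs1)
  have d2 : Disjoint (blk G x s2) (blk G x y2) :=
    disjoint_in_cls hG hs2 (self_mem_cls x y2) fun e => hq2 (e ▸ qs2)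
  have d3 : Disjoint (blk G x s3) (blk G x y3) :=
    disjoint_in_cls hG hs3 (self_mem_cls x y3) fun e => hq3 (e ▸ qs3)
  -- the last point of the first opposite block lies on the others
  obtain ⟨r, hr, hS1⟩ := fourth f1 (Ne.symm hb.2.1) (Ne.symm hc.2.1)
    (fun e => b_3 (e ▸ cm)) qs1 bs1 cs1
  simp only [mem_insert, mem_singleton, not_or] at hr
  have rs1 : r ∈ blk G x s1 := hS1 ▸ mem_insert_self _ _
  have shared : ∀ {y s : V} {d e : V}, Far G x y → s ∈ cls G x y → meet G x s1 y = 2 → s1 ≠ y →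
      d ∈ blk G x s1 → d ∈ blk G x s → q1 ∉ blk G x s → e ∈ blk G x s1 → e ∉ blk G x s →
      d ≠ r → e ≠ r → d ≠ e → (∀ u ∈ blk G x s1, u = r ∨ u = q1 ∨ u = d ∨ u = e) →
      r ∈ blk G x s := by
    intro y s d e hy hs hm hne hd hds hq he hes hdr her hde hrest
    have h2' := meet_two hG hy f1 (notMem_cls_of_meet hG hne (by omega)) hm hs hd hds
    by_contra hrs
    have hsub : blk G x s1 ∩ blk G x s ⊆ {d} := fun u hu => by
      rw [mem_inter] at hu
      rcases hrest u hu.1 with rfl | rfl | rfl | rfl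
      exacts [absurd hu.2 hrs, absurd hu.2 hq, mem_singleton_self _, absurd hu.2 hes]
    have := card_le_card hsub
    rw [card_singleton] at this
    rw [meet] at h2'
    omega
  have m21 : meet G x s1 y2 = 2 := by
    rw [meet, inter_comm, i21, card_pair (Ne.symm hb.2.1)]
  have m31 : meet G x s1 y3 = 2 := (two f1 h3 (fun e => b_3 (e ▸ bs1)) (Ne.symm hc.2.1) qs1 a3 cs1 cm).1
  have rs2 : r ∈ blk G x s2 := shared h2 hs2 m21 (fun e => c_2 (e ▸ cs1)) cs1 cs2
    (fun h => disjoint_left.1 d2 h a2) bs1 (fun h => disjoint_left.1 d2 h bm)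
    (Ne.symm hr.2.2) (Ne.symm hr.2.1) (fun e => b_3 (e ▸ cm))
    (fun u hu => by rcases rest hS1 u hu with e | e | e | e <;> tauto)
  have rs3 : r ∈ blk G x s3 := shared h3 hs3 m31 (fun e => b_3 (e ▸ bs1)) bs1 bs3
    (fun h => disjoint_left.1 d3 h a3) cs1 (fun h => disjoint_left.1 d3 h cm)
    (Ne.symm hr.2.1) (Ne.symm hr.2.2) (fun e => b_3 (e.symm ▸ cm))
    (fun u hu => by rcases rest hS1 u hu with e | e | e | e <;> tauto)
  have r_1 : r ∉ blk G x y1 := fun h => disjoint_left.1 d1 rs1 h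
  have r_3 : r ∉ blk G x y3 := fun h => disjoint_left.1 d3 rs3 h
  -- a further block through the two points `c`, `r`
  have s12 : s1 ≠ s2 := fun e => disjoint_left.1 d2 (e ▸ bs1) bm
  obtain ⟨w, hw, hws1, hws2⟩ : ∃ w, (Far G x w ∧ c ∈ blk G x w ∧ r ∈ blk G x w) ∧ w ≠ s1 ∧ w ≠ s2 := by
    have h3' := card_far_pair hG (mem_blk.1 cm).1 (mem_blk.1 rs1).1 (Ne.symm hr.2.2)
    obtain ⟨w, hw, hw'⟩ := exists_mem_notMem_of_card_lt_card (s := ({s1, s2} : Finset V))
      (by rw [h3', card_pair s12]; norm_num)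
    simp only [mem_insert, mem_singleton, not_or] at hw'
    exact ⟨w, (mem_filter.1 hw).2, hw'⟩
  obtain ⟨hwF, cw, rw'⟩ := hw
  have w1 : w ∉ cls G x y1 := by
    rw [← cls_eq hG hs1]; exact notMem_cls_of_meet hG hws1 (meet_pos cw cs1)
  have w2 : w ∉ cls G x y2 := by
    rw [← cls_eq hG hs2]; exact notMem_cls_of_meet hG hws2 (meet_pos cw cs2)
  have w3y : w ≠ y3 := fun e => r_3 (e ▸ rw')
  have w3 : w ∉ cls G x y3 := notMem_cls_of_meet hG w3y (meet_pos cw cm)
  have cr : c ≠ r := Ne.symm hr.2.2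
  obtain ⟨-, ew1⟩ := two hwF f1 hws1 cr cw cs1 rw' rs1
  obtain ⟨-, ew2⟩ := two hwF f2 hws2 cr cw cs2 rw' rs2
  have out1 : ∀ u, u ∈ blk G x s1 → u ≠ c → u ≠ r → u ∉ blk G x w := fun u hu hc' hr' h => by
    have : u ∈ ({c, r} : Finset V) := ew1 ▸ mem_inter.2 ⟨h, hu⟩
    simp [hc', hr'] at this
  have out2 : ∀ u, u ∈ blk G x s2 → u ≠ c → u ≠ r → u ∉ blk G x w := fun u hu hc' hr' h => by
    have : u ∈ ({c, r} : Finset V) := ew2 ▸ mem_inter.2 ⟨h, hu⟩
    simp [hc', hr'] at this
  have aw : a ∉ blk G x w := out2 a as2 (fun e => a_3 (e ▸ cm)) (fun e => r_1 (e ▸ am))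
  have q2w : q2 ∉ blk G x w := out2 q2 qs2 (Ne.symm hc.2.2) (fun e => r_1 (e ▸ b1))
  have q1w : q1 ∉ blk G x w := out1 q1 qs1 (Ne.symm hc.2.1) (Ne.symm hr.1)
  have bw : b ∉ blk G x w := out1 b bs1 (fun e => b_3 (e ▸ cm)) (Ne.symm hr.2.1)
  have hiff : p ∈ blk G x w ↔ q3 ∈ blk G x w := by
    constructor
    · intro hpw
      obtain ⟨hm, -⟩ := two hwF h3 w3y hc.1 cw cm hpw p3
      have hm3 := meet_two hG h3 hwF w3 hm hs3 rw' rs3
      by_contra hq3w
      have hsub : blk G x w ∩ blk G x s3 ⊆ {r} := fun u hu => by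
        rw [mem_inter] at hu
        have hu3 : u = a ∨ u = b ∨ u = q3 ∨ u = r := by
          obtain ⟨r', hr', hS3⟩ := fourth f3 (fun e : a = b => b_1 (e ▸ am)) ha.2.2 hb.2.2 as3 bs3 qs3
          simp only [mem_insert, mem_singleton, not_or] at hr'
          have : r = r' := by
            rcases rest hS3 r rs3 with e | e | e | e
            exacts [e, absurd (e ▸ am) r_1, absurd e hr.2.1, absurd (e ▸ c1) r_1]
          rcases rest hS3 u hu.2 with e | e | e | e
          exacts [Or.inr (Or.inr (Or.inr (e.trans this.symm))), Or.inl e, Or.inr (Or.inl e),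
            Or.inr (Or.inr (Or.inl e))]
        rcases hu3 with e | e | e | e
        exacts [absurd (e ▸ hu.1) aw, absurd (e ▸ hu.1) bw, absurd (e ▸ hu.1) hq3w, mem_singleton.2 e]
      have := card_le_card hsub
      rw [card_singleton] at this
      rw [meet] at hm3
      omega
    · intro hqw
      have ws3 : w ≠ s3 := fun e => w3 (e ▸ hs3)
      obtain ⟨hm, -⟩ := two hwF f3 ws3 (fun e : r = q3 => r_1 (e ▸ c1)) rw' rs3 hqw qs3
      have hm3 := meet_two hG f3 hwF (by rwa [cls_eq hG hs3]) hm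
        ((cls_eq hG hs3).symm ▸ self_mem_cls x y3) cw cm
      by_contra hpw
      have hsub : blk G x w ∩ blk G x y3 ⊆ {c} := fun u hu => by
        rw [mem_inter] at hu
        rcases rest hB3 u hu.2 with e | e | e | e
        exacts [mem_singleton.2 e, absurd (e ▸ hu.1) hpw, absurd (e ▸ hu.1) q1w, absurd (e ▸ hu.1) q2w]
      have := card_le_card hsub
      rw [card_singleton] at this
      rw [meet] at hm3
      omega
  -- five common neighbours of `y1` and `y2`
  have hna : ¬ G.Adj y1 y2 := not_adj_of_meet hG (meet_pos p1 p2)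
  have hcom := card_common hG y1 y2 n12
  rw [if_neg hna] at hcom
  set N := univ.filter fun z => G.Adj y1 z ∧ G.Adj y2 z with hN
  have two_mates : ∀ u ∈ ((cls G x y3).erase y3).erase s3, u ∈ N ∧ Far G x u ∧ u ∈ cls G x y3 := by
    intro u hu
    simp only [mem_erase] at hu
    have hu3 := disjoint_in_cls hG hu.2.2 (self_mem_cls x y3) hu.2.1
    have hus := disjoint_in_cls hG hu.2.2 hs3 hu.1
    have hd1 : Disjoint (blk G x y1) (blk G x u) := disjoint_left.2 fun z hz hzu => by
      rcases rest hB1 z hz with e | e | e | e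
      exacts [disjoint_left.1 hus hzu (e ▸ as3), disjoint_left.1 hu3 hzu (e ▸ p3),
        disjoint_left.1 hu3 hzu (e ▸ b3), disjoint_left.1 hus hzu (e ▸ qs3)]
    have hd2 : Disjoint (blk G x y2) (blk G x u) := disjoint_left.2 fun z hz hzu => by
      rcases rest hB2 z hz with e | e | e | e
      exacts [disjoint_left.1 hus hzu (e ▸ bs3), disjoint_left.1 hu3 hzu (e ▸ p3),
        disjoint_left.1 hu3 hzu (e ▸ a3), disjoint_left.1 hus hzu (e ▸ qs3)]
    have huF := far_of_mem_cls h3 hu.2.2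
    have o1 : u ∉ cls G x y1 := fun h => by
      have he : cls G x y3 = cls G x y1 := (cls_eq hG hu.2.2).symm.trans (cls_eq hG h)
      exact notMem_cls_of_meet hG n13 (by omega) (he ▸ self_mem_cls x y1)
    have o2 : u ∉ cls G x y2 := fun h => by
      have he : cls G x y3 = cls G x y2 := (cls_eq hG hu.2.2).symm.trans (cls_eq hG h)
      exact notMem_cls_of_meet hG n23 (by omega) (he ▸ self_mem_cls x y2)
    exact ⟨mem_filter.2 ⟨mem_univ _, adj_of_disjoint hG h1 huF o1 hd1, adj_of_disjoint hG h2 huF o2 hd2⟩,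
      huF, hu.2.2⟩
  obtain ⟨v, hvF, hv3, hv1d, hv2d, hv1, hv2⟩ : ∃ v, Far G x v ∧ v ∉ cls G x y3 ∧
      Disjoint (blk G x y1) (blk G x v) ∧ Disjoint (blk G x y2) (blk G x v) ∧
      v ∉ cls G x y1 ∧ v ∉ cls G x y2 := by
    by_cases hpw : p ∈ blk G x w
    · have hqw := hiff.1 hpw
      obtain ⟨m1, -⟩ := two hwF h1 (fun e => w1 (e ▸ self_mem_cls x w)) (Ne.symm n3) hpw p1 hqw c1
      obtain ⟨m2, -⟩ := two hwF h2 (fun e => w2 (e ▸ self_mem_cls x w)) (Ne.symm n3) hpw p2 hqw c2
      have bad : ∀ {y : V}, Far G x y → w ∉ cls G x y → meet G x w y = 2 →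
          (((cls G x w).erase w).filter fun u => meet G x y u ≠ 0).card ≤ 1 := by
        intro y hy hout hm
        have houty : y ∉ cls G x w := fun h => hout (cls_eq hG h ▸ self_mem_cls x w)
        have hsum := sum_meet hG hwF hy
        rw [← add_sum_erase _ _ (self_mem_cls x w), meet_comm, hm] at hsum
        have := card_nsmul_le_sum (((cls G x w).erase w).filter fun u => meet G x y u ≠ 0)
          (fun u => meet G x y u) 2 fun u hu => by
            rw [mem_filter] at hu
            rcases meet_even hG hwF hy houty (by rw [meet_comm]; exact hm) (mem_erase.1 hu.1).2 with h | h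
            · exact absurd h hu.2
            · exact h.ge
        have hle := sum_le_sum_of_subset (f := fun u => meet G x y u)
          (filter_subset (fun u => meet G x y u ≠ 0) ((cls G x w).erase w))
        rw [smul_eq_mul] at this
        have h' := this.trans hle
        omega
      obtain ⟨v, hv, hv'⟩ := exists_mem_notMem_of_card_lt_card
        (s := (((cls G x w).erase w).filter fun u => meet G x y1 u ≠ 0) ∪
          (((cls G x w).erase w).filter fun u => meet G x y2 u ≠ 0))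
        (t := (cls G x w).erase w) (by
          refine lt_of_le_of_lt (card_union_le _ _) ?_
          have := bad h1 w1 m1
          have := bad h2 w2 m2
          rw [card_erase_of_mem (self_mem_cls x w), card_cls hG hwF]
          omega)
      simp only [mem_union, mem_filter, not_or, not_and, not_not] at hv'
      have hvc := (mem_erase.1 hv).2
      have hcl := cls_eq hG hvc
      refine ⟨v, far_of_mem_cls hwF hvc, fun h => w3 ?_, disjoint_of_meet (hv'.1 hv),
        disjoint_of_meet (hv'.2 hv), fun h => w1 ?_, fun h => w2 ?_⟩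
      all_goals exact (cls_eq hG h).symm.trans hcl ▸ self_mem_cls x w
    · have hqw : q3 ∉ blk G x w := fun h => hpw (hiff.2 h)
      refine ⟨w, hwF, w3, disjoint_left.2 fun z hz hzw => ?_, disjoint_left.2 fun z hz hzw => ?_, w1, w2⟩
      · rcases rest hB1 z hz with e | e | e | e
        exacts [aw (e ▸ hzw), hpw (e ▸ hzw), q2w (e ▸ hzw), hqw (e ▸ hzw)]
      · rcases rest hB2 z hz with e | e | e | e
        exacts [bw (e ▸ hzw), hpw (e ▸ hzw), q1w (e ▸ hzw), hqw (e ▸ hzw)]
  set M := ((cls G x y3).erase y3).erase s3 with hM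
  have hMc : M.card = 2 := by
    rw [hM, card_erase_of_mem (mem_erase.2 ⟨fun e : s3 = y3 => hq3 (e ▸ qs3), hs3⟩),
      card_erase_of_mem (self_mem_cls x y3), card_cls hG h3]
  have hfarNot : ∀ u, Far G x u → u ≠ p ∧ u ≠ q3 := fun u hu =>
    ⟨fun e => hu.2 (e ▸ (mem_blk.1 p1).1), fun e => hu.2 (e ▸ (mem_blk.1 c1).1)⟩
  have hvM : v ∉ M := fun h => hv3 (two_mates v h).2.2
  have hsub : insert v (insert p (insert q3 M)) ⊆ N := by
    refine insert_subset (mem_filter.2 ⟨mem_univ _, adj_of_disjoint hG h1 hvF hv1 hv1d,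
      adj_of_disjoint hG h2 hvF hv2 hv2d⟩) (insert_subset ?_ (insert_subset ?_ fun u hu => (two_mates u hu).1))
    · exact mem_filter.2 ⟨mem_univ _, (mem_blk.1 p1).2, (mem_blk.1 p2).2⟩
    · exact mem_filter.2 ⟨mem_univ _, (mem_blk.1 c1).2, (mem_blk.1 c2).2⟩
  have h5 := card_le_card hsub
  rw [card_insert_of_notMem (by simp [hvM, (hfarNot v hvF).1, (hfarNot v hvF).2]),
    card_insert_of_notMem (by
      simp only [mem_insert, not_or]
      exact ⟨Ne.symm n3, fun h => (hfarNot p (two_mates p h).2.1).1 rfl⟩),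
    card_insert_of_notMem (fun h => (hfarNot q3 (two_mates q3 h).2.1).2 rfl), hMc, hcom] at h5
  omega

end Cfsg.Agent.Srg77
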